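import Mathlib
import Cfsg.Prelude.Def_Blocks
import Cfsg.Prelude.Def_Solvable
import Cfsg.Agent.H686.CharKit
import Cfsg.Agent.Characters.DegreeBounds
import Cfsg.Agent.Characters.Linear
set_option linter.all false

/-!
# Irreducible characters of prime codegree

* `charDegree_le_index`: the degree is at most the index of an abelian subgroup;
* `charDegree_sq_lt`: `χ(1)² < |G|` for a nontrivial group;
* `exists_normal`: if `|G| = p χ(1)` with `p` prime then there is a normal subgroup of order `p`
  which is its own centraliser;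
* `exists_hom_prime`: a finite group which is not perfect has a homomorphism to `ℂˣ` with kernel of
  prime index.
-/

set_option autoImplicit false

namespace Cfsg.Agent.H677.CodPrime

open Cfsg Cfsg.Agent.H686.CharKit
open scoped commutatorElement

universe u

variable {G : Type u} [Group G] [Finite G]

/-- The degree of an irreducible character is at most the index of an abelian subgroup. -/
theorem charDegree_le_index (χ : IrrCharacter G) (A : Subgroup G)
    (hA : ∀ a ∈ A, ∀ b ∈ A, a * b = b * a) : charDegree (χ : G → ℂ) ≤ A.index := by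
  obtain ⟨χ, n, ρ, hρ, rfl⟩ := χ
  have h1 : ρ.character 1 = (Module.finrank ℂ (Fin n → ℂ) : ℂ) := Representation.char_one ρ
  have h2 : charDegree ρ.character = Module.finrank ℂ (Fin n → ℂ) := by
    unfold charDegree
    rw [h1]
    simp
  change charDegree ρ.character ≤ _
  rw [h2]
  have := hρ
  exact Characters.DegreeBounds.finrank_le_index_of_comm ρ A hA

/-- The degree of an irreducible character divides the group order. -/
theorem charDegree_dvd_card (χ : IrrCharacter G) : charDegree (χ : G → ℂ) ∣ Nat.card G := by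
  obtain ⟨χ, n, ρ, hρ, rfl⟩ := χ
  have h1 : ρ.character 1 = (Module.finrank ℂ (Fin n → ℂ) : ℂ) := Representation.char_one ρ
  have h2 : charDegree ρ.character = Module.finrank ℂ (Fin n → ℂ) := by
    unfold charDegree
    rw [h1]
    simp
  change charDegree ρ.character ∣ _
  rw [h2]
  have := hρ
  exact Characters.DegreeBounds.finrank_dvd_card ρ

/-- The square of a character degree is less than the order of a nontrivial group. -/
theorem charDegree_sq_lt [Nontrivial G] (χ : IrrCharacter G) :
    charDegree (χ : G → ℂ) ^ 2 < Nat.card G := by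
  classical
  have := Characters.Core.finite_irr (G := G)
  let _ := Fintype.ofFinite (IrrCharacter G)
  have hsum := sum_deg_sq (G := G)
  let o : IrrCharacter G := ⟨1, Characters.Core.isIrr_one⟩
  have ho : charDegree (o : G → ℂ) = 1 := by
    rw [charDegree_eq_one_iff]
    rfl
  by_cases h : χ = o
  · rw [h, ho, one_pow]
    exact Finite.one_lt_card
  · have h2 : ∑ ψ ∈ ({χ, o} : Finset (IrrCharacter G)), charDegree (ψ : G → ℂ) ^ 2 ≤
        ∑ ψ : IrrCharacter G, charDegree (ψ : G → ℂ) ^ 2 :=
      Finset.sum_le_sum_of_subset (Finset.subset_univ _)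
    rw [Finset.sum_pair h, ho, hsum] at h2
    omega

/-- If `|G| = p χ(1)` with `p` prime, there is a normal subgroup of order `p` which contains its
centraliser. -/
theorem exists_normal (χ : IrrCharacter G) {p : ℕ} (hp : p.Prime)
    (hcod : Nat.card G = p * charDegree (χ : G → ℂ)) :
    ∃ P : Subgroup G, P.Normal ∧ Nat.card P = p ∧ ∀ c : G, (∀ x ∈ P, c * x = x * c) → c ∈ P := by
  classical
  have := Fact.mk hp
  set d := charDegree (χ : G → ℂ) with hd
  have hd0 : 0 < d := charDegree_pos χ
  have : Nontrivial G := by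
    rw [← Finite.one_lt_card_iff_nontrivial, hcod]
    nlinarith [hp.two_le]
  have hdp : d < p := by
    have h := charDegree_sq_lt χ
    rw [← hd, hcod, pow_two] at h
    exact lt_of_mul_lt_mul_right h (Nat.zero_le _)
  have hpd : ¬ p ∣ d := fun h => absurd (Nat.le_of_dvd hd0 h) (not_le.2 hdp)
  let P : Sylow p G := default
  have hPc : Nat.card P = p := by
    rw [P.card_eq_multiplicity, hcod, Nat.factorization_mul hp.ne_zero hd0.ne']
    simp [hp.factorization_self, Nat.factorization_eq_zero_of_not_dvd hpd]
  have hPi : (P : Subgroup G).index = d := by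
    have h := (P : Subgroup G).card_mul_index
    rw [hPc, hcod] at h
    exact Nat.eq_of_mul_eq_mul_left hp.pos h
  have hone : Nat.card (Sylow p G) = 1 := by
    have h1 : Nat.card (Sylow p G) ≡ 1 [MOD p] := card_sylow_modEq_one p G
    have h2 : Nat.card (Sylow p G) ∣ d := hPi ▸ P.card_dvd_index
    have h3 : Nat.card (Sylow p G) < p := lt_of_le_of_lt (Nat.le_of_dvd hd0 h2) hdp
    unfold Nat.ModEq at h1
    rwa [Nat.mod_eq_of_lt h3, Nat.mod_eq_of_lt hp.one_lt] at h1
  have : Subsingleton (Sylow p G) := (Nat.card_eq_one_iff_unique.1 hone).1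
  refine ⟨P, P.normal_of_subsingleton, hPc, fun c hc => ?_⟩
  set A : Subgroup G := (P : Subgroup G) ⊔ Subgroup.zpowers c with hA
  have hcyc : IsCyclic (P : Subgroup G) := isCyclic_of_prime_card hPc
  have hPcomm : ∀ x ∈ (P : Subgroup G), ∀ y ∈ (P : Subgroup G), x * y = y * x := by
    intro x hx y hy
    let _ := hcyc.commGroup
    exact congrArg Subtype.val (mul_comm (⟨x, hx⟩ : (P : Subgroup G)) ⟨y, hy⟩)
  have hAcomm : ∀ a ∈ A, ∀ b ∈ A, a * b = b * a := by
    have h1 : ∀ a ∈ ((P : Subgroup G) : Set G) ∪ {c}, ∀ b ∈ ((P : Subgroup G) : Set G) ∪ {c},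
        a * b = b * a := by
      rintro a (ha | ha) b (hb | hb)
      · exact hPcomm a ha b hb
      · rw [Set.mem_singleton_iff] at hb; subst hb; exact (hc a ha).symm
      · rw [Set.mem_singleton_iff] at ha; subst ha; exact hc b hb
      · rw [Set.mem_singleton_iff] at ha hb; rw [ha, hb]
    have h2 : A = Subgroup.closure (((P : Subgroup G) : Set G) ∪ {c}) := by
      rw [Subgroup.closure_union, Subgroup.closure_eq, hA, Subgroup.zpowers_eq_closure]
    intro a ha b hb
    rw [h2] at ha hb
    have h3 : Subgroup.closure (((P : Subgroup G) : Set G) ∪ {c}) ≤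
        Subgroup.centralizer (((P : Subgroup G) : Set G) ∪ {c}) :=
      (Subgroup.closure_le _).2 fun x hx => Subgroup.mem_centralizer_iff.2 fun y hy =>
        h1 y hy x hx
    have h4 : Subgroup.closure (((P : Subgroup G) : Set G) ∪ {c}) ≤
        Subgroup.centralizer
          ((Subgroup.closure (((P : Subgroup G) : Set G) ∪ {c}) : Subgroup G) : Set G) := by
      rw [Subgroup.closure_le]
      intro x hx
      rw [SetLike.mem_coe, Subgroup.mem_centralizer_iff]
      intro y hy
      exact (Subgroup.mem_centralizer_iff.1 (h3 hy) x hx).symm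
    exact (Subgroup.mem_centralizer_iff.1 (h4 ha) b hb).symm
  have hle := charDegree_le_index χ A hAcomm
  have hPA : (P : Subgroup G) ≤ A := le_sup_left
  have hAi : A.index ∣ (P : Subgroup G).index := Subgroup.index_dvd_of_le hPA
  have hAi2 : A.index = (P : Subgroup G).index := by
    rw [hPi] at hAi ⊢
    exact le_antisymm (Nat.le_of_dvd hd0 hAi) hle
  have hPA2 : (P : Subgroup G) = A := by
    have hcards : Nat.card A ≤ Nat.card (P : Subgroup G) := by
      have e1 := A.card_mul_index
      have e2 := (P : Subgroup G).card_mul_index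
      rw [hAi2, ← e2] at e1
      exact (Nat.eq_of_mul_eq_mul_right (by rw [hPi]; exact hd0) e1).le
    exact Subgroup.eq_of_le_of_card_ge hPA hcards
  rw [hPA2]
  exact Subgroup.mem_sup_right (Subgroup.mem_zpowers c)

omit [Finite G] in
/-- In a group with a normal subgroup `P` of prime order containing its centraliser, the commutator
subgroup is contained in `P`. -/
theorem commutator_le_of_normal {p : ℕ} (hp : p.Prime) (P : Subgroup G) [P.Normal]
    (hP : Nat.card P = p) (hC : ∀ c : G, (∀ x ∈ P, c * x = x * c) → c ∈ P) :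
    commutator G ≤ P := by
  have := Fact.mk hp
  have : IsCyclic P := isCyclic_of_prime_card hP
  rw [commutator_eq_closure, Subgroup.closure_le]
  rintro _ ⟨a, b, rfl⟩
  apply hC
  intro x hx
  let f : G →* MulAut P := MulAut.conjNormal
  have hcomm : ∀ s t : MulAut P, s * t = t * s := by
    have h := IsCyclic.mulAutMulEquiv P
    intro s t
    apply h.injective
    rw [map_mul, map_mul, mul_comm]
  have hf : f ⁅a, b⁆ = 1 := by
    rw [map_commutatorElement, commutatorElement_eq_one_iff_mul_comm]
    exact hcomm _ _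
  have h1 : f ⁅a, b⁆ ⟨x, hx⟩ = ⟨x, hx⟩ := by rw [hf]; rfl
  have h2 : ⁅a, b⁆ * x * ⁅a, b⁆⁻¹ = x := by
    have := congrArg Subtype.val h1
    rwa [MulAut.conjNormal_apply] at this
  rw [mul_inv_eq_iff_eq_mul] at h2
  exact h2

/-- A finite group that is not perfect has a homomorphism to `ℂˣ` whose kernel has prime index. -/
theorem exists_hom_prime (h : commutator G ≠ ⊤) :
    ∃ (f : G →* ℂˣ) (p : ℕ), p.Prime ∧ f.ker.index = p := by
  classical
  have hcard := Characters.Linear.card_hom_eq_index_commutator G
  have hne : (commutator G).index ≠ 1 := fun h1 => h (Subgroup.index_eq_one.1 h1)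
  obtain ⟨p, hp, hpd⟩ := Nat.exists_prime_and_dvd hne
  rw [← hcard] at hpd
  have := Fact.mk hp
  have : Finite (G →* ℂˣ) := by
    apply Nat.finite_of_card_ne_zero
    rw [hcard]
    exact Subgroup.index_ne_zero_of_finite
  obtain ⟨f, hf⟩ := exists_prime_orderOf_dvd_card' p hpd
  refine ⟨f, p, hp, ?_⟩
  have hf1 : f ≠ 1 := by
    rintro rfl
    rw [orderOf_one] at hf
    exact hp.one_lt.ne hf
  have hfp : f ^ p = 1 := by rw [← hf]; exact pow_orderOf_eq_one f
  rw [Subgroup.index_ker]
  -- the range lies in the group of `p`-th roots of unity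
  have hle : f.range ≤ rootsOfUnity p ℂ := by
    rintro _ ⟨g, rfl⟩
    rw [mem_rootsOfUnity]
    have := DFunLike.congr_fun hfp g
    simpa using this
  have hc : Nat.card (rootsOfUnity p ℂ) = p := by
    have : NeZero p := ⟨hp.ne_zero⟩
    exact Complex.card_rootsOfUnity p
  have hd : Nat.card f.range ∣ p := hc ▸ Subgroup.card_dvd_of_le hle
  rcases (Nat.dvd_prime hp).1 hd with h1 | h1
  · exfalso
    apply hf1
    have : f.range = ⊥ := Subgroup.card_eq_one.1 h1
    ext g
    have hg : f g ∈ f.range := ⟨g, rfl⟩
    rw [this, Subgroup.mem_bot] at hg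
    rw [hg]; rfl
  · exact h1

end Cfsg.Agent.H677.CodPrime
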