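import Cfsg.Agent.H603.SporElim
import Cfsg.Agent.H677.OrdAltSpor
import Cfsg.Agent.H677.J3Field
import Cfsg.Agent.Prune
set_option linter.all false
prune_inst 0x7f00000000000000000000000000000000000000000000000000000000000000000000000000000000000000000000000000000000000000000000000000000000000000000000000000000000000000003fffffffffffffffffffffffffffbeffbdffffffff
open scoped Cfsg.Agent.FastGrp

/-!
# Sporadic groups (and the Tits group) of equal order are isomorphic
-/

set_option autoImplicit false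

namespace Cfsg.Agent.H677.OrdSporIso

open Cfsg Cfsg.Agent.NotCT Cfsg.Agent.H677.OrdAltSpor

universe u v

/-- `G` is the sporadic group (or the Tits group) of order `N`. -/
def Rep (N : ℕ) (G : Type*) [Group G] : Prop :=
  (N = 7920 ∧ Spor.IsoM11 G) ∨ (N = 95040 ∧ Spor.IsoM12 G) ∨ (N = 443520 ∧ Spor.IsoM22 G) ∨
  (N = 10200960 ∧ Spor.IsoM23 G) ∨ (N = 244823040 ∧ Spor.IsoM24 G) ∨
  (N = 175560 ∧ Spor.IsoJ1 G) ∨ (N = 604800 ∧ Spor.IsoJ2 G) ∨ (N = 50232960 ∧ Spor.IsoJ3 G) ∨
  (N = 86775571046077562880 ∧ Spor.IsoJ4 G) ∨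
  (N = 4157776806543360000 ∧ Spor.IsoCo1 G) ∨ (N = 42305421312000 ∧ Spor.IsoCo2 G) ∨
  (N = 495766656000 ∧ Spor.IsoCo3 G) ∨ (N = 898128000 ∧ Spor.IsoMcL G) ∨
  (N = 44352000 ∧ Spor.IsoHS G) ∨ (N = 448345497600 ∧ Spor.IsoSuz G) ∨
  (N = 4030387200 ∧ Spor.IsoHe G) ∨ (N = 145926144000 ∧ Spor.IsoRu G) ∨
  (N = 460815505920 ∧ Spor.IsoON G) ∨ (N = 51765179004000000 ∧ Spor.IsoLy G) ∨
  (N = 64561751654400 ∧ Spor.IsoFi22 G) ∨ (N = 4089470473293004800 ∧ Spor.IsoFi23 G) ∨
  (N = 1255205709190661721292800 ∧ Spor.IsoFi24' G) ∨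
  (N = 273030912000000 ∧ Spor.IsoHN G) ∨ (N = 90745943887872000 ∧ Spor.IsoTh G) ∨
  (N = 4154781481226426191177580544000000 ∧ Spor.IsoB G) ∨
  (N = 808017424794512875886459904961710757005754368000000000 ∧ Spor.IsoM G) ∨
  (N = 17971200 ∧ Lie.IsoTits G)

theorem rep {G : Type u} [Group G] (h : IsSporadicGroup G ∨ Lie.IsoTits G) :
    Rep (Nat.card G) G := by
  unfold Rep
  rcases h with h | h
  · rcases h with h | h | h | h | h | h | h | h | h | h | h | h | h | h | h | h | h | h | h | h |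
      h | h | h | h | h | h
    · exact Or.inl ⟨Orders.m11 h, h⟩
    · exact Or.inr (Or.inl ⟨Orders.m12 h, h⟩)
    · exact Or.inr (Or.inr (Or.inl ⟨Orders.m22 h, h⟩))
    · iterate 3 apply Or.inr
      exact Or.inl ⟨Orders.m23 h, h⟩
    · iterate 4 apply Or.inr
      exact Or.inl ⟨Orders.m24 h, h⟩
    · iterate 5 apply Or.inr
      exact Or.inl ⟨Orders.j1 h, h⟩
    · iterate 6 apply Or.inr
      exact Or.inl ⟨Orders.j2 h, h⟩
    · iterate 7 apply Or.inr
      exact Or.inl ⟨Orders.j3 h, h⟩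
    · iterate 8 apply Or.inr
      exact Or.inl ⟨Orders.j4 h, h⟩
    · iterate 9 apply Or.inr
      exact Or.inl ⟨Orders.co1 h, h⟩
    · iterate 10 apply Or.inr
      exact Or.inl ⟨Orders.co2 h, h⟩
    · iterate 11 apply Or.inr
      exact Or.inl ⟨Orders.co3 h, h⟩
    · iterate 12 apply Or.inr
      exact Or.inl ⟨Orders.mcl h, h⟩
    · iterate 13 apply Or.inr
      exact Or.inl ⟨Orders.hs h, h⟩
    · iterate 14 apply Or.inr
      exact Or.inl ⟨Orders.suz h, h⟩
    · iterate 15 apply Or.inr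
      exact Or.inl ⟨Orders.he h, h⟩
    · iterate 16 apply Or.inr
      exact Or.inl ⟨Orders.ru h, h⟩
    · iterate 17 apply Or.inr
      exact Or.inl ⟨Orders.on h, h⟩
    · iterate 18 apply Or.inr
      exact Or.inl ⟨Orders.ly h, h⟩
    · iterate 19 apply Or.inr
      exact Or.inl ⟨Orders.fi22 h, h⟩
    · iterate 20 apply Or.inr
      exact Or.inl ⟨Orders.fi23 h, h⟩
    · iterate 21 apply Or.inr
      exact Or.inl ⟨Orders.fi24 h, h⟩
    · iterate 22 apply Or.inr
      exact Or.inl ⟨Orders.hn h, h⟩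
    · iterate 23 apply Or.inr
      exact Or.inl ⟨Orders.th h, h⟩
    · iterate 24 apply Or.inr
      exact Or.inl ⟨Orders.b h, h⟩
    · iterate 25 apply Or.inr
      exact Or.inl ⟨Orders.m h, h⟩
  · iterate 26 apply Or.inr
    exact ⟨Orders.tits h, h⟩

/-- The order of a sporadic group (or of the Tits group) is in the list. -/
theorem card_mem {G : Type u} [Group G] (h : IsSporadicGroup G ∨ Lie.IsoTits G) :
    Nat.card G ∈ sporOrders := by
  have h1 := rep h
  unfold Rep at h1
  rcases h1 with h | h | h | h | h | h | h | h | h | h | h | h | h | h | h | h | h | h | h | h |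
    h | h | h | h | h | h | h <;> (rw [h.1]; decide)

/-- Sporadic groups (and the Tits group) of equal order are isomorphic. -/
theorem spor_spor {G : Type u} [Group G] {M : Type v} [Group M]
    (hG : IsSporadicGroup G ∨ Lie.IsoTits G) (hM : IsSporadicGroup M ∨ Lie.IsoTits M)
    (h : Nat.card G = Nat.card M) : Nonempty (G ≃* M) := by
  have h1 := rep hG
  have h2 := rep hM
  rw [← h] at h2
  generalize Nat.card G = N at h1 h2
  unfold Rep at h1 h2
  rcases h1 with h | h | h | h | h | h | h | h | h | h | h | h | h | h | h | h | h | h | h | h |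
    h | h | h | h | h | h | h <;>
  (obtain ⟨rfl, hA⟩ := h
   rcases h2 with h | h | h | h | h | h | h | h | h | h | h | h | h | h | h | h | h | h | h | h |
     h | h | h | h | h | h | h <;>
   first
   | exact absurd h.1 (by decide)
   | exact J3Field.isoJ3_unique hA h.2
   | (obtain ⟨-, ⟨e'⟩⟩ := h
      obtain ⟨e⟩ := hA
      exact ⟨e.trans e'.symm⟩))

/-- No sporadic group (nor the Tits group) has order `n! / 2`. -/
theorem alt_spor {G : Type u} [Group G] (hG : IsSporadicGroup G ∨ Lie.IsoTits G) {n : ℕ}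
    (h : 2 * Nat.card G = n.factorial) : False :=
  OrdAltSpor.alt_spor h (card_mem hG)

/-- No sporadic group (nor the Tits group) has the order of a simple group of Lie type. -/
theorem lie_spor {G : Type u} [Group G] (hG : IsSporadicGroup G ∨ Lie.IsoTits G)
    {T : H437.LT} {p f : ℕ} (h : H437.IsOrd T p f (Nat.card G)) : False :=
  OrdAltSpor.lie_spor h (card_mem hG)

end Cfsg.Agent.H677.OrdSporIso
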