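import Mathlib
import Cfsg.Agent.LieClassical.OrthTrans
import Cfsg.Agent.Characters.DegreeBounds
import Cfsg.Prelude.Def_Blocks
import Cfsg.Prelude.Def_Classical
import Cfsg.Agent.AutOrth.Main
import Cfsg.Agent.H677.PslThree_m3
import Cfsg.Agent.FastGrp
import Cfsg.Agent.Prune
set_option linter.all false
prune_inst 0x7f00000000000000000000000000000000000000000000000000000000000000000000000000000000000000000000000000000000000000000000000000000000000000000000000000000000000000003fffffffffffffffffffffffffffbeffbdffffffff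
open scoped Cfsg.Agent.FastGrp

-- part: H677/OmegaDeg
section
/-!
# A lower bound for the degrees of the nontrivial representations of orthogonal groups

For a nondegenerate quadratic form `Q` of Witt index at least two on a space `V` over a finite
field `F`, the group `E Q` generated by the Siegel transformations has no nontrivial complex
representation of dimension less than `|F| ^ (dim V - 4)`.

* `card_le_finrank`: the number of distinct weights of a commuting family is at most the dimension;
* `finrank_ge`: the lower bound.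
-/

set_option autoImplicit false

namespace Cfsg.Agent.H677.OmegaDeg

open Cfsg.Agent.LieClassical.OrthCore Cfsg.Agent.LieClassical.OrthTrans
open QuadraticMap Module

universe u

/-- The number of distinct weights of a commuting family of operators is at most the dimension. -/
theorem card_le_finrank {M : Type*} [AddCommGroup M] [Module ℂ M] [FiniteDimensional ℂ M]
    {κ ι : Type*} (f : κ → Module.End ℂ M) (hf : ∀ i j, Commute (f i) (f j)) (c : ι → κ → ℂ)
    (hc : Function.Injective c) (v : ι → M) (hv : ∀ i, v i ≠ 0)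
    (h : ∀ i k, f k (v i) = c i k • v i) : Nat.card ι ≤ Module.finrank ℂ M := by
  have hind := Module.End.independent_iInf_maxGenEigenspace_of_forall_mapsTo f
    (fun i j φ => Module.End.mapsTo_maxGenEigenspace_of_comm (hf j i) φ)
  have hind2 := hind.comp hc
  have hmem : ∀ i, v i ∈ ⨅ k, (f k).maxGenEigenspace (c i k) := by
    intro i
    rw [Submodule.mem_iInf]
    intro k
    have h1 : v i ∈ (f k).eigenspace (c i k) := Module.End.mem_eigenspace_iff.2 (h i k)
    exact ((f k).genEigenspace (c i k)).mono (show (1 : ℕ∞) ≤ ⊤ from le_top) h1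
  have hli : LinearIndependent ℂ v := hind2.linearIndependent _ hmem hv
  have hfin : Finite ι := hli.finite
  let _ := Fintype.ofFinite ι
  rw [Nat.card_eq_fintype_card]
  exact hli.fintype_card_le_finrank

variable {F V : Type*} [Field F] [AddCommGroup V] [Module F V] {Q : QuadraticForm F V}

/-- `siegel u (c u) = 1`. -/
theorem siegel_smul_self {u : V} (hu : Q u = 0) (c : F) (h : polar Q u (c • u) = 0) :
    siegel Q u (c • u) hu h = 1 := by
  ext v
  rw [siegel_apply, QuadraticMap.map_smul, hu, polar_smul_left]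
  change _ = v
  simp only [smul_smul, smul_eq_mul]
  module

theorem siegel_zero {u : V} (hu : Q u = 0) (h : polar Q u 0 = 0) :
    siegel Q u 0 hu h = 1 := by
  ext v
  rw [siegel_apply]
  change _ = v
  simp

/-- Siegel transformations as elements of `E Q`. -/
def sg (u : V) (hu : Q u = 0) (w : V) (hw : polar Q u w = 0) : E Q :=
  ⟨siegel Q u w hu hw, siegel_mem_E hu hw⟩

theorem sg_mul {u : V} (hu : Q u = 0) {w w' : V} (hw : polar Q u w = 0) (hw' : polar Q u w' = 0)
    (h : polar Q u (w + w') = 0) : sg u hu w hw * sg u hu w' hw' = sg u hu (w + w') h :=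
  Subtype.ext (siegel_mul hu hw hw' h)

theorem sg_congr {u : V} (hu : Q u = 0) {w w' : V} (hw : polar Q u w = 0) (hw' : polar Q u w' = 0)
    (h : w = w') : sg u hu w hw = sg u hu w' hw' := by
  subst h
  rfl

/-- A nontrivial representation of `E Q` is nontrivial on a Siegel transformation of two singular
vectors. -/
theorem exists_sing (hG : Good Q) {X : Type*} [Group X] (ρ : E Q →* X) (hρ : ∃ g, ρ g ≠ 1) :
    ∃ (u u' s : V) (h : Hyp Q u u') (_ : Q s = 0) (hs : polar Q u s = 0) (_ : polar Q u' s = 0),
      ρ (sg u h.left s hs) ≠ 1 := by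
  -- some generator is not in the kernel
  obtain ⟨u, w, hu, hw, h1⟩ : ∃ (u w : V) (hu : Q u = 0) (hw : polar Q u w = 0),
      ρ (sg u hu w hw) ≠ 1 := by
    by_contra hcon
    push Not at hcon
    obtain ⟨g, hg⟩ := hρ
    apply hg
    have key : ∀ x (hx : x ∈ E Q), ρ ⟨x, hx⟩ = 1 := by
      intro x hx
      induction hx using Subgroup.closure_induction with
      | mem x hx =>
        obtain ⟨u, w, hu, hw, rfl⟩ := hx
        exact hcon u w hu hw
      | one => exact map_one ρ
      | mul x y hx hy h1 h2 =>
        have : (⟨x * y, mul_mem hx hy⟩ : E Q) = ⟨x, hx⟩ * ⟨y, hy⟩ := rfl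
        rw [this, map_mul, h1, h2, one_mul]
      | inv x hx h1 =>
        have : (⟨x⁻¹, inv_mem hx⟩ : E Q) = (⟨x, hx⟩)⁻¹ := rfl
        rw [this, map_inv, h1, inv_one]
    exact key g.1 g.2
  have hu0 : u ≠ 0 := by
    rintro rfl
    apply h1
    have : sg (0 : V) hu w hw = 1 := by
      apply Subtype.ext
      change siegel Q 0 w hu hw = 1
      ext v
      rw [siegel_apply, polar_zero_left]
      change _ = v
      simp
    rw [this, map_one]
  obtain ⟨u', hyp⟩ := exists_hyp hG.nondeg hu hu0
  obtain ⟨x, y, hxy, hux, huy, hu'x, hu'y⟩ := hG.exists_hyp2 hyp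
  by_contra hcon
  push Not at hcon
  -- all vectors orthogonal to `u`, `u'`
  have h2 : ∀ v, polar Q u v = 0 → polar Q u' v = 0 → ∀ hv : polar Q u v = 0,
      ρ (sg u hu v hv) = 1 := by
    refine fun v h1 h2 => sing_induction_perp (P := fun v => ∀ hv : polar Q u v = 0,
      ρ (sg u hu v hv) = 1) hxy hux huy hu'x hu'y ?_ ?_ v h1 h2
    · intro a c ha _ hc _ pa pc hac
      rw [← sg_mul hu ha hc hac, map_mul, pa ha, pc hc, one_mul]
    · intro a hsing ha ha' hv
      exact hcon u u' a hyp hsing hv ha'
  apply h1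
  set w' := w + (-polar Q u' w) • u with hw'
  have huw' : polar Q u w' = 0 := by
    rw [hw', polar_add_right, polar_smul_right, hw, polar_self_of_sing hu, smul_zero, add_zero]
  have hu'w' : polar Q u' w' = 0 := by
    rw [hw', polar_add_right, polar_smul_right, hyp.pair', smul_eq_mul]
    ring
  have hcu : polar Q u ((polar Q u' w) • u) = 0 := by
    rw [polar_smul_right, polar_self_of_sing hu, smul_zero]
  have hsum : w = w' + (polar Q u' w) • u := by rw [hw']; module
  have hsum' : polar Q u (w' + (polar Q u' w) • u) = 0 := by rw [← hsum]; exact hw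
  rw [sg_congr hu hw hsum' hsum, ← sg_mul hu huw' hcu hsum', map_mul, h2 w' huw' hu'w' huw',
    one_mul]
  have : sg u hu ((polar Q u' w) • u) hcu = 1 := Subtype.ext (siegel_smul_self hu _ hcu)
  rw [this, map_one]

/-- The subspace of vectors orthogonal to four given vectors. -/
def perp4 (Q : QuadraticForm F V) (a b c d : V) : Submodule F V :=
  LinearMap.ker (LinearMap.pi ![polarBilin Q a, polarBilin Q b, polarBilin Q c, polarBilin Q d] :
    V →ₗ[F] (Fin 4 → F))

theorem mem_perp4 {a b c d x : V} : x ∈ perp4 Q a b c d ↔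
    polar Q a x = 0 ∧ polar Q b x = 0 ∧ polar Q c x = 0 ∧ polar Q d x = 0 := by
  rw [perp4, LinearMap.mem_ker, funext_iff]
  simp only [Fin.forall_fin_succ, _root_.LinearMap.pi_apply, _root_.Pi.zero_apply, _root_.Fin.isValue, _root_.Matrix.cons_val_zero, _root_.QuadraticMap.polarBilin_apply_apply, _root_.Matrix.cons_val_succ, _root_.Matrix.cons_val_fin_one, _root_.forall_const]

variable [Finite F] [FiniteDimensional F V]

theorem card_perp4 (a b c d : V) :
    Nat.card F ^ (Module.finrank F V - 4) ≤ Nat.card (perp4 Q a b c d) := by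
  have h1 : Module.finrank F V - 4 ≤ Module.finrank F (perp4 Q a b c d) := by
    have h2 := LinearMap.finrank_range_add_finrank_ker
      (LinearMap.pi ![polarBilin Q a, polarBilin Q b, polarBilin Q c, polarBilin Q d] :
        V →ₗ[F] (Fin 4 → F))
    have h3 : Module.finrank F (LinearMap.range (LinearMap.pi ![polarBilin Q a, polarBilin Q b,
        polarBilin Q c, polarBilin Q d] : V →ₗ[F] (Fin 4 → F))) ≤ 4 := by
      have := Submodule.finrank_le (LinearMap.range (LinearMap.pi ![polarBilin Q a, polarBilin Q b,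
        polarBilin Q c, polarBilin Q d] : V →ₗ[F] (Fin 4 → F)))
      rwa [Module.finrank_fin_fun] at this
    unfold perp4
    omega
  rw [Module.natCard_eq_pow_finrank (K := F) (V := perp4 Q a b c d)]
  exact Nat.pow_le_pow_right Nat.card_pos h1

/-- **Lower bound.** A nontrivial complex representation of `E Q`, for a nondegenerate quadratic
form of Witt index at least two over a finite field `F`, has dimension at least
`|F| ^ (dim V - 4)`. -/
theorem finrank_ge (hG : Good Q) {M : Type*} [AddCommGroup M] [Module ℂ M] [FiniteDimensional ℂ M]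
    (ρ : Representation ℂ (E Q) M) (hρ : ∃ g, ρ g ≠ 1) :
    Nat.card F ^ (Module.finrank F V - 4) ≤ Module.finrank ℂ M := by
  classical
  have hfinV : Finite V := Module.finite_of_finite F
  have hfinE : Finite (E Q) := by
    have : Finite (V ≃ₗ[F] V) := DFunLike.finite _
    infer_instance
  have hρ' : ∃ g, (ρ.asGroupHom : E Q →* (M →ₗ[ℂ] M)ˣ) g ≠ 1 := by
    obtain ⟨g, hg⟩ := hρ
    refine ⟨g, fun h => hg ?_⟩
    rw [← Representation.asGroupHom_apply, h]
    rfl
  obtain ⟨u, u', s, hyp, hs0, hus, hu's, hne⟩ := exists_sing hG _ hρ'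
  have hu := hyp.left
  have hne1 : ρ (sg u hu s hus) ≠ 1 := by
    intro h
    apply hne
    ext1
    rw [Representation.asGroupHom_apply, h]
    rfl
  have hs_ne : s ≠ 0 := by
    rintro rfl
    apply hne1
    have : sg u hu 0 hus = 1 := Subtype.ext (siegel_zero hu hus)
    rw [this, map_one]
  obtain ⟨s', hyp', hus', hu's'⟩ := exists_hyp_perp hG.nondeg hyp hs0 hs_ne hus hu's
  -- the commuting family
  let A := {x : V // polar Q u x = 0}
  let t : A → E Q := fun x => sg u hu x.1 x.2
  have hpol_add : ∀ {x y : V}, polar Q u x = 0 → polar Q u y = 0 → polar Q u (x + y) = 0 := by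
    intro x y hx hy
    rw [polar_add_right, hx, hy, add_zero]
  have htc : ∀ x y : A, t x * t y = t y * t x := by
    intro x y
    change sg u hu x.1 x.2 * sg u hu y.1 y.2 = sg u hu y.1 y.2 * sg u hu x.1 x.2
    rw [sg_mul hu x.2 y.2 (hpol_add x.2 y.2), sg_mul hu y.2 x.2 (hpol_add y.2 x.2)]
    exact sg_congr hu _ _ (add_comm _ _)
  let f : A → Module.End ℂ M := fun x => ρ (t x)
  have hfc : ∀ x y : A, f x * f y = f y * f x := by
    intro x y
    change ρ (t x) * ρ (t y) = ρ (t y) * ρ (t x)
    rw [← map_mul, htc, map_mul]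
  -- a common eigenvector in the range of `ρ (t s) - 1`
  let sA : A := ⟨s, hus⟩
  let R : Submodule ℂ M := LinearMap.range (f sA - 1)
  have hR : R ≠ ⊥ := by
    intro h
    apply hne1
    rw [LinearMap.range_eq_bot] at h
    exact sub_eq_zero.1 h
  have hRf : ∀ x : A, ∀ w ∈ R, f x w ∈ R := by
    rintro x _ ⟨w, rfl⟩
    refine ⟨f x w, ?_⟩
    have h1 : (f sA - 1) * f x = f x * (f sA - 1) := by
      rw [sub_mul, mul_sub, hfc sA x, one_mul, mul_one]
    exact LinearMap.congr_fun h1 w
  obtain ⟨v, hvR, hv0, hv⟩ :=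
    Characters.DegreeBounds.exists_common_eigenvector f hfc R hR hRf
  choose lam hlam using hv
  -- `lam` is multiplicative
  have hlam_add : ∀ x y : A, ∀ z : A, z.1 = x.1 + y.1 → lam z = lam x * lam y := by
    intro x y z hz
    have h1 : t z = t x * t y := by
      change sg u hu z.1 z.2 = sg u hu x.1 x.2 * sg u hu y.1 y.2
      rw [sg_mul hu x.2 y.2 (hpol_add x.2 y.2)]
      exact sg_congr hu _ _ hz
    have h2 : lam z • v = (lam x * lam y) • v := by
      rw [← hlam z]
      change ρ (t z) v = _
      rw [h1, map_mul]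
      change f x (f y v) = _
      rw [hlam y, map_smul, hlam x, smul_smul, mul_comm]
    exact smul_left_injective ℂ hv0 h2
  have hlam_ne : ∀ x : A, lam x ≠ 0 := by
    intro x h
    have h1 := hlam x
    rw [h, zero_smul] at h1
    apply hv0
    have h2 : ρ ((t x)⁻¹) (f x v) = v := by
      change (ρ ((t x)⁻¹) * ρ (t x)) v = v
      rw [← map_mul, inv_mul_cancel, map_one]
      rfl
    rw [← h2, h1, map_zero]
  have hlam_s : lam sA ≠ 1 := by
    intro h
    have h1 := hlam sA
    rw [h, one_smul] at h1
    obtain ⟨w, hw⟩ := hvR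
    -- sum over the powers
    set m := orderOf (t sA) with hm
    have hmpos : 0 < m := orderOf_pos _
    have h2 : (∑ i ∈ Finset.range m, f sA ^ i) v = (m : ℂ) • v := by
      have h3 : ∀ i, (f sA ^ i) v = v := by
        intro i
        induction i with
        | zero => rfl
        | succ i ih =>
          rw [pow_succ]
          change (f sA ^ i) (f sA v) = v
          rw [h1, ih]
      rw [LinearMap.sum_apply, Finset.sum_congr rfl (fun i _ => h3 i), Finset.sum_const,
        Finset.card_range, ← Nat.cast_smul_eq_nsmul ℂ]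
    have h4 : (∑ i ∈ Finset.range m, f sA ^ i) * (f sA - 1) = 0 := by
      rw [geom_sum_mul, sub_eq_zero]
      change ρ (t sA) ^ m = 1
      rw [← map_pow, pow_orderOf_eq_one, map_one]
    have h5 : (∑ i ∈ Finset.range m, f sA ^ i) v = 0 := by
      rw [← hw]
      exact LinearMap.congr_fun h4 w
    rw [h2] at h5
    rcases smul_eq_zero.1 h5 with h6 | h6
    · exact hmpos.ne' (by exact_mod_cast h6)
    · exact hv0 h6
  -- the family of weights
  let ι := perp4 Q u u' s s'
  have hsy : ∀ y : ι, polar Q s y.1 = 0 := fun y => (mem_perp4.1 y.2).2.2.1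
  have huy : ∀ y : ι, polar Q u y.1 = 0 := fun y => (mem_perp4.1 y.2).1
  let g : ι → E Q := fun y => sg s hs0 y.1 (hsy y)
  have hgO : ∀ y : ι, (g y : V ≃ₗ[F] V) ∈ O Q := fun y => E_le_O (g y).2
  have hsu : polar Q s u = 0 := by rw [polar_comm]; exact hus
  have hgu : ∀ y : ι, (g y : V ≃ₗ[F] V) u = u := by
    intro y
    change siegel Q s y.1 hs0 (hsy y) u = u
    rw [siegel_apply, hsu, polar_comm Q y.1 u, huy y]
    simp
  have hgx : ∀ (y : ι) (x : V), polar Q s x = 0 →
      (g y : V ≃ₗ[F] V) x = x + (-polar Q y.1 x) • s := by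
    intro y x hx
    change siegel Q s y.1 hs0 (hsy y) x = _
    rw [siegel_apply, hx]
    module
  have hgA : ∀ (y : ι) (x : A), polar Q u ((g y : V ≃ₗ[F] V) x.1) = 0 := by
    intro y x
    have h1 := polar_map (hgO y) u x.1
    rw [hgu] at h1
    rw [h1]
    exact x.2
  let a : ι → A → A := fun y x => ⟨(g y : V ≃ₗ[F] V) x.1, hgA y x⟩
  have hconj : ∀ (y : ι) (x : A), g y * t x * (g y)⁻¹ = t (a y x) := by
    intro y x
    apply Subtype.ext
    change (g y : V ≃ₗ[F] V) * siegel Q u x.1 hu x.2 * ((g y : V ≃ₗ[F] V))⁻¹ =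
      siegel Q u ((g y : V ≃ₗ[F] V) x.1) hu (hgA y x)
    have h1 : Q ((g y : V ≃ₗ[F] V) u) = 0 := by rw [hgu]; exact hu
    have h2 : polar Q ((g y : V ≃ₗ[F] V) u) ((g y : V ≃ₗ[F] V) x.1) = 0 := by
      rw [hgu]; exact hgA y x
    rw [siegel_conj (hgO y) hu x.2 h1 h2]
    congr 1
    exact hgu y
  let c : ι → A → ℂ := fun y x => lam (a y x)
  let vv : ι → M := fun y => ρ (g y)⁻¹ v
  have hvv0 : ∀ y, vv y ≠ 0 := by
    intro y h
    apply hv0
    have h2 : ρ (g y) (vv y) = v := by
      change (ρ (g y) * ρ (g y)⁻¹) v = v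
      rw [← map_mul, mul_inv_cancel, map_one]
      rfl
    rw [← h2, h, map_zero]
  have hvv : ∀ y x, f x (vv y) = c y x • vv y := by
    intro y x
    have h1 : t x * (g y)⁻¹ = (g y)⁻¹ * t (a y x) := by
      rw [← hconj]; group
    change (ρ (t x) * ρ (g y)⁻¹) v = lam (a y x) • ρ (g y)⁻¹ v
    rw [← map_mul, h1, map_mul]
    change ρ (g y)⁻¹ (f (a y x) v) = _
    rw [hlam, map_smul]
  have hcinj : Function.Injective c := by
    intro y y' hyy
    by_contra hne2
    have hd : (y.1 - y'.1 : V) ≠ 0 := by
      intro h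
      exact hne2 (Subtype.ext (sub_eq_zero.1 h))
    obtain ⟨x1, hx1⟩ := hG.nondeg.exists_polar_eq hd 1
    -- project to the common orthogonal complement
    set x2 := LieClassical.OrthTrans.proj Q u u' x1 with hx2
    set x3 := LieClassical.OrthTrans.proj Q s s' x2 with hx3
    have hdm : (y.1 - y'.1 : V) ∈ perp4 Q u u' s s' := Submodule.sub_mem _ y.2 y'.2
    obtain ⟨hd1, hd2, hd3, hd4⟩ := mem_perp4.1 hdm
    have e1 : polar Q (y.1 - y'.1) x3 = 1 := by
      rw [hx3, polar_proj_of_perp hd3 hd4, hx2, polar_proj_of_perp hd1 hd2, hx1]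
    have e2 : polar Q s x3 = 0 := polar_proj_left hyp' _
    have e3 : polar Q u x3 = 0 := by
      rw [hx3, LieClassical.OrthTrans.proj, polar_sub_right, polar_sub_right, polar_smul_right,
        polar_smul_right, hus, hus', hx2, polar_proj_left hyp]
      simp
    let xA : A := ⟨x3, e3⟩
    have hc1 := congrFun hyy xA
    change lam (a y xA) = lam (a y' xA) at hc1
    have hsmul : ∀ r : F, polar Q u (r • s) = 0 := fun r => by
      rw [polar_smul_right, hus, smul_zero]
    have h1 : ∀ z : ι, lam (a z xA) = lam xA * lam ⟨(-polar Q z.1 x3) • s, hsmul _⟩ := by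
      intro z
      apply hlam_add
      exact hgx z x3 e2
    rw [h1 y, h1 y'] at hc1
    have hc2 := mul_left_cancel₀ (hlam_ne xA) hc1
    -- compare
    have h2 : lam ⟨(-polar Q y'.1 x3) • s, hsmul _⟩ =
        lam ⟨(-polar Q y.1 x3) • s, hsmul _⟩ * lam sA := by
      apply hlam_add
      change (-polar Q y'.1 x3) • s = (-polar Q y.1 x3) • s + s
      have h3 : polar Q y.1 x3 = 1 + polar Q y'.1 x3 := by
        rw [← e1, polar_sub_left]
        ring
      rw [h3]
      module
    rw [← hc2] at h2
    have h3 := mul_left_cancel₀ (hlam_ne _) ((mul_one _).trans h2)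
    exact hlam_s h3.symm
  have hfin := card_le_finrank f (fun i j => hfc i j) c hcinj vv hvv0 hvv
  exact (card_perp4 u u' s s').trans hfin

end Cfsg.Agent.H677.OmegaDeg
end

-- part: H677/OmegaIrr
section
/-!
# Lower bound for the degrees of the irreducible characters of the simple orthogonal groups

* `charDegree_ge`: a nonprincipal irreducible character of a group isomorphic to `POmega F Q`,
  `Q` nondegenerate of Witt index at least two in dimension `N`, has degree at least
  `|F| ^ (N - 4)`;
* `charDegree_ge_odd`: the special case `POmega F (quadFormOdd m F)`: at least `|F| ^ (2 m - 3)`.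
-/

set_option autoImplicit false

namespace Cfsg.Agent.H677.OmegaIrr

open Cfsg.Agent.LieClassical.OrthCore Cfsg.Agent.LieClassical.OrthTrans
open QuadraticMap Module
open Cfsg Cfsg.Agent.H686.CharKit Cfsg.Agent.H677.CodMultiset Cfsg.Agent.H677.OmegaDeg

universe u

/-- Lower bound for the degrees of the nonprincipal irreducible characters of a quotient of
`E Q`. -/
theorem charDegree_ge_of_surjective {F V : Type*} [Field F] [AddCommGroup V] [Module F V]
    {Q : QuadraticForm F V} [Finite F] [FiniteDimensional F V] (hG : Good Q) {K : Type u} [Group K]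
    [Finite K] (f : E Q →* K) (hf : Function.Surjective f) (χ : IrrCharacter K)
    (hχ : χ ≠ one K) :
    Nat.card F ^ (Module.finrank F V - 4) ≤ charDegree (χ : K → ℂ) := by
  obtain ⟨χ, n, ρ, hρ, rfl⟩ := χ
  have h1 : ρ.character 1 = (Module.finrank ℂ (Fin n → ℂ) : ℂ) := Representation.char_one ρ
  have h2 : charDegree ρ.character = Module.finrank ℂ (Fin n → ℂ) := by
    unfold charDegree
    rw [h1]
    simp only [_root_.Module.finrank_fintype_fun_eq_card, _root_.Fintype.card_fin, _root_.Complex.natCast_re, _root_.Nat.floor_natCast]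
  change _ ≤ charDegree ρ.character
  rw [h2]
  let σ : Representation ℂ (E Q) (Fin n → ℂ) := ρ.comp f
  apply finrank_ge hG σ
  by_contra hcon
  push Not at hcon
  apply hχ
  apply eq_one_of_chKer
  rw [eq_top_iff]
  intro g _
  obtain ⟨x, rfl⟩ := hf g
  rw [mem_chKer]
  change ρ.character (f x) = ρ.character 1
  have h3 : ρ (f x) = 1 := hcon x
  have h4 : ρ (f x) = ρ 1 := by rw [h3, map_one]
  exact congrArg (LinearMap.trace ℂ (Fin n → ℂ)) h4

variable {F : Type} [Field F] [Finite F]

theorem charDegree_ge {ι : Type} [Fintype ι] [DecidableEq ι] {Q : QuadraticForm F (ι → F)}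
    (hG : Good Q) {K : Type u} [Group K] [Finite K] (e : K ≃* Cfsg.POmega F ⇑Q)
    (χ : IrrCharacter K) (hχ : χ ≠ one K) :
    Nat.card F ^ (Fintype.card ι - 4) ≤ charDegree (χ : K → ℂ) := by
  let f : E Q →* K := (e.symm.toMonoidHom.comp (AutOrth.Main.pe hG).symm.toMonoidHom).comp
    (QuotientGroup.mk' _)
  have hf : Function.Surjective f :=
    (e.symm.surjective.comp (AutOrth.Main.pe hG).symm.surjective).comp
      (QuotientGroup.mk'_surjective _)
  have h := charDegree_ge_of_surjective hG f hf χ hχ
  rwa [Module.finrank_fintype_fun_eq_card] at h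

theorem charDegree_ge_odd {m : ℕ} (hm : 2 ≤ m) (h2 : (2 : F) ≠ 0) {K : Type u} [Group K]
    [Finite K] (e : K ≃* Cfsg.POmega F (Cfsg.quadFormOdd m F)) (χ : IrrCharacter K)
    (hχ : χ ≠ one K) : Nat.card F ^ (2 * m - 3) ≤ charDegree (χ : K → ℂ) := by
  revert e
  rw [← LieClassical.QuadForms.coe_oddForm]
  intro e
  have h := charDegree_ge (AutOrth.Main.good_odd hm h2) e χ hχ
  have h3 : Fintype.card (Unit ⊕ (Fin m ⊕ Fin m)) - 4 = 2 * m - 3 := by
    simp only [_root_.Fintype.card_sum, _root_.Fintype.card_unique, _root_.Fintype.card_fin]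
    omega
  rwa [h3] at h

end Cfsg.Agent.H677.OmegaIrr
end

private theorem dce_9bb8bf5af952 : _root_.True := by
  try have : _root_.True := by simp only [_root_.Cfsg.Agent.H677.OmegaDeg.perp4.eq_1]
  try have : _root_.True := by simp only [_root_.Cfsg.Agent.H677.OmegaDeg.sg.congr_simp]
  exact _root_.True.intro
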