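import Mathlib
import Cfsg.Prelude.Def_Blocks
import Cfsg.Agent.Characters.Core
import Cfsg.Prelude.Def_ClassicalGeometry
import Cfsg.Agent.ClassicalGeometry.SympBasic
import Cfsg.Prelude.Def_Classical
import Cfsg.Agent.S0271
import Cfsg.Agent.ClassicalGeometry.SympInvolutions
import Cfsg.Agent.H686.CharKit
import Cfsg.Agent.Prune
set_option linter.all false
prune_inst 0x7fffb9fefbaf7bffdfff7fbfafdedffdf7aaefffeffffdf37f626bbf1fbf5f92cfcf6fbdeffbb3fe5f77ea1414fcfb53fbfffeffe86ffc7ffffdf7b41ffbffcffdf7b50851989ca406ac2fff03f0670e6a3ffd7affffffffffffffffffffffbeffbfebfefffd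
open scoped Cfsg.Agent.FastGrp

-- part: H677/WeilCore
section
/-!
# The Weil representation from abstract Heisenberg data

`HData V X`: operators `D v` (`v : V`), as complex matrices over the finite index type `X`, with
`D v * D w = e v w • D (v + w)`, with scalar commutant, and a parity operator `P`.

If a group `G` acts on `V` preserving `e`, then `W g = ∑ v, D (g • v) * D (-v)` intertwines
`D v` and `D (g • v)`, and there is a canonical normalisation `om g = (R g)⁻¹ • W g`
(`R g` the quotient of the determinants on the even and on the odd part) for which `om` is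
multiplicative.

* `om_mul`, `om_one`: `om` is a homomorphism;
* `om_comm_P`: it commutes with `P`;
* `normSq_trace_om`: `|tr (om g)|²` is the number of fixed points of `g` on `V`;
* `om_neg`: an element acting as `-1` on `V` is mapped to `P` or `-P`.
-/

set_option autoImplicit false

namespace Cfsg.Agent.H677.WeilCore

open Matrix
open scoped ComplexConjugate ComplexOrder

/-- Abstract Heisenberg data. -/
structure HData (V X : Type*) [AddCommGroup V] [Fintype V] [Fintype X] [DecidableEq X] where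
  D : V → Matrix X X ℂ
  e : V → V → ℂ
  P : Matrix X X ℂ
  D_mul : ∀ v w, D v * D w = e v w • D (v + w)
  D_zero : D 0 = 1
  e_add_left : ∀ u v w, e (u + v) w = e u w * e v w
  e_add_right : ∀ u v w, e u (v + w) = e u v * e u w
  e_self : ∀ v, e v v = 1
  star_D : ∀ v, (D v)ᴴ = D (-v)
  trace_D : ∀ v, v ≠ 0 → (D v).trace = 0
  comm : ∀ A : Matrix X X ℂ, (∀ v, A * D v = D v * A) → ∃ c : ℂ, A = c • (1 : Matrix X X ℂ)
  P_sq : P * P = 1
  star_P : Pᴴ = P
  P_D : ∀ v, P * D v = D (-v) * P
  trace_P : P.trace = 1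
  card_V : Fintype.card V = Fintype.card X ^ 2
  det_P : ∀ c : ℂ, (c • ((1 / 2 : ℂ) • (1 + P)) + (1 / 2 : ℂ) • (1 - P)).det =
    c * (c • ((1 / 2 : ℂ) • (1 - P)) + (1 / 2 : ℂ) • (1 + P)).det

namespace HData

variable {V X : Type*} [AddCommGroup V] [Fintype V] [Fintype X] [DecidableEq X]
  (H : HData V X)

theorem e_zero_left (w : V) : H.e 0 w = 1 := by
  have h1 := H.e_add_left 0 0 w
  rw [add_zero] at h1
  have h2 : H.e 0 w ≠ 0 := by
    intro h0
    have h3 := H.e_add_left w (-w) w
    have h4 := H.e_add_left 0 (w) w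
    rw [h0, zero_mul, zero_add, H.e_self] at h4
    exact one_ne_zero h4
  exact (mul_left_cancel₀ h2 (by rw [mul_one]; exact h1)).symm

theorem e_zero_right (w : V) : H.e w 0 = 1 := by
  have h1 := H.e_add_right w 0 0
  rw [add_zero] at h1
  have h2 : H.e w 0 ≠ 0 := by
    intro h0
    have h4 := H.e_add_right w 0 w
    rw [h0, zero_mul, zero_add, H.e_self] at h4
    exact one_ne_zero h4
  exact (mul_left_cancel₀ h2 (by rw [mul_one]; exact h1)).symm

theorem e_neg_left (v w : V) : H.e (-v) w * H.e v w = 1 := by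
  rw [← H.e_add_left, neg_add_cancel, e_zero_left]

theorem e_neg_right (v w : V) : H.e v (-w) * H.e v w = 1 := by
  rw [← H.e_add_right, neg_add_cancel, e_zero_right]

theorem e_ne_zero (v w : V) : H.e v w ≠ 0 := fun h => by
  have := H.e_neg_left v w
  rw [h, mul_zero] at this
  exact zero_ne_one this

theorem e_symm (v w : V) : H.e v w * H.e w v = 1 := by
  have h := H.e_self (v + w)
  rw [H.e_add_left, H.e_add_right, H.e_add_right, H.e_self, H.e_self, one_mul, mul_one] at h
  exact h

theorem D_mul_neg (v : V) : H.D v * H.D (-v) = 1 := by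
  rw [H.D_mul, add_neg_cancel, H.D_zero]
  have h := H.e_neg_right v v
  rw [H.e_self, mul_one] at h
  rw [h, one_smul]

variable {G : Type*} [Group G] [DistribMulAction G V]

/-- The intertwiner. -/
noncomputable def W (g : G) : Matrix X X ℂ := ∑ v : V, H.D (g • v) * H.D (-v)

variable {H}

theorem W_mul_D (he : ∀ (g : G) (v w : V), H.e (g • v) (g • w) = H.e v w) (g : G) (w : V) :
    H.W g * H.D w = H.D (g • w) * H.W g := by
  have h1 : H.D (g • w) * H.W g = ∑ v : V, (H.e w v) • (H.D (g • (w + v)) * H.D (-v)) := by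
    rw [W, Finset.mul_sum]
    refine Finset.sum_congr rfl fun v _ => ?_
    rw [← mul_assoc, H.D_mul, he, smul_mul_assoc, smul_add]
  have h2 : H.W g * H.D w = ∑ v : V, (H.e w (v - w)) • (H.D (g • v) * H.D (-(v - w))) := by
    rw [W, Finset.sum_mul]
    refine Finset.sum_congr rfl fun v _ => ?_
    rw [mul_assoc, H.D_mul, mul_smul_comm]
    have e1 : -v + w = -(v - w) := by abel
    rw [e1]
    congr 1
    have e2 : H.e w (v - w) = H.e w v := by
      rw [sub_eq_add_neg, H.e_add_right]
      have := H.e_neg_right w w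
      rw [H.e_self, mul_one] at this
      rw [this, mul_one]
    have e3 := H.e_neg_left v w
    have e4 := H.e_symm v w
    rw [e2]
    apply mul_right_cancel₀ (H.e_ne_zero v w)
    rw [e3, mul_comm, e4]
  rw [h1, h2]
  exact Fintype.sum_equiv (Equiv.subRight w) _ _ (fun v => by
    simp only [Equiv.subRight_apply, add_sub_cancel])

theorem star_W (g : G) : (H.W g)ᴴ = ∑ v : V, H.D v * H.D (-(g • v)) := by
  rw [W, conjTranspose_sum]
  refine Finset.sum_congr rfl fun v _ => ?_
  rw [conjTranspose_mul, H.star_D, H.star_D, neg_neg]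

theorem trace_D_mul_D [DecidableEq V] (v w : V) : (H.D v * H.D (-w)).trace =
    if v = w then (Fintype.card X : ℂ) else 0 := by
  by_cases h : v = w
  · subst h
    rw [H.D_mul_neg, if_pos rfl, Matrix.trace_one]
  · rw [H.D_mul, Matrix.trace_smul, H.trace_D _ (fun h' => h (by
      rw [← sub_eq_zero, sub_eq_add_neg]; exact h')), smul_zero, if_neg h]

/-- Number of fixed points. -/
noncomputable def fix (V : Type*) [AddCommGroup V] {G : Type*} [Group G] [DistribMulAction G V]
    (g : G) : ℕ := Nat.card {v : V // g • v = v}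

theorem trace_W (g : G) : (H.W g).trace = (Fintype.card X : ℂ) * fix V g := by
  classical
  rw [W, Matrix.trace_sum, Finset.sum_congr rfl (fun v _ => trace_D_mul_D (H := H) (g • v) v),
    ← Finset.sum_filter, Finset.sum_const, nsmul_eq_mul, mul_comm, fix,
    Nat.card_eq_fintype_card, Fintype.card_subtype]

theorem fix_pos (g : G) : 0 < fix V g := by
  have : Nonempty {v : V // g • v = v} := ⟨⟨0, smul_zero g⟩⟩
  exact Nat.card_pos

omit [DecidableEq X] in
theorem card_X_ne [Nonempty X] : (Fintype.card X : ℂ) ≠ 0 := by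
  exact_mod_cast Fintype.card_ne_zero

theorem W_ne_zero [Nonempty X] (g : G) : H.W g ≠ 0 := by
  intro h
  have h1 := trace_W (H := H) g
  rw [h, Matrix.trace_zero] at h1
  have h2 : (fix V g : ℂ) ≠ 0 := by exact_mod_cast (fix_pos (V := V) g).ne'
  exact mul_ne_zero card_X_ne h2 h1.symm

theorem star_W_mul_D (he : ∀ (g : G) (v w : V), H.e (g • v) (g • w) = H.e v w) (g : G) (w : V) :
    (H.W g)ᴴ * H.D (g • w) = H.D w * (H.W g)ᴴ := by
  have h := congrArg conjTranspose (W_mul_D he g (-w))
  rw [conjTranspose_mul, conjTranspose_mul, H.star_D, H.star_D, neg_neg, smul_neg, neg_neg] at h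
  exact h.symm

/-- `W g` is unitary up to a scalar. -/
theorem exists_scalar [Nonempty X] (he : ∀ (g : G) (v w : V), H.e (g • v) (g • w) = H.e v w)
    (g : G) : ∃ c : ℂ, c ≠ 0 ∧ (H.W g)ᴴ * H.W g = c • 1 := by
  obtain ⟨c, hc⟩ := H.comm ((H.W g)ᴴ * H.W g) fun v => by
    rw [mul_assoc, W_mul_D he, ← mul_assoc, star_W_mul_D he, mul_assoc]
  refine ⟨c, ?_, hc⟩
  rintro rfl
  rw [zero_smul, conjTranspose_mul_self_eq_zero] at hc
  exact W_ne_zero g hc

/-- The scalar of `exists_scalar`. -/
theorem star_W_mul_W [Nonempty X] (he : ∀ (g : G) (v w : V), H.e (g • v) (g • w) = H.e v w)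
    (g : G) : (H.W g)ᴴ * H.W g = ((Fintype.card V : ℂ) * fix V g) • 1 := by
  classical
  obtain ⟨c, _, hc⟩ := exists_scalar he g
  have h1 : ((H.W g)ᴴ * H.W g).trace = c * Fintype.card X := by
    rw [hc, Matrix.trace_smul, Matrix.trace_one, smul_eq_mul]
  have h2 : ((H.W g)ᴴ * H.W g).trace =
      ∑ w : V, ∑ v : V, (H.D w * H.D (-(g • w)) * (H.D (g • v) * H.D (-v))).trace := by
    rw [star_W, W, Finset.sum_mul, Matrix.trace_sum]
    refine Finset.sum_congr rfl fun w _ => ?_
    rw [Finset.mul_sum, Matrix.trace_sum]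
  have h3 : ∀ w v : V, (H.D w * H.D (-(g • w)) * (H.D (g • v) * H.D (-v))).trace =
      if g • (v - w) = v - w then (Fintype.card X : ℂ) else 0 := by
    intro w v
    have e1 : H.D w * H.D (-(g • w)) * (H.D (g • v) * H.D (-v)) =
        H.D w * (H.D (-(g • w)) * H.D (g • v)) * H.D (-v) := by
      simp only [mul_assoc]
    rw [e1, H.D_mul (-(g • w)), mul_smul_comm, smul_mul_assoc, Matrix.trace_smul, H.D_mul w,
      smul_mul_assoc, Matrix.trace_smul, trace_D_mul_D]
    have hiff : (w + (-(g • w) + g • v) = v) ↔ g • (v - w) = v - w := by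
      rw [smul_sub]
      constructor
      · intro h
        rw [← sub_eq_zero] at h ⊢
        rw [← h]; abel
      · intro h
        rw [← sub_eq_zero] at h ⊢
        rw [← h]; abel
    by_cases h : g • (v - w) = v - w
    · rw [if_pos h, if_pos (hiff.2 h)]
      have e2 : -(g • w) + g • v = v - w := by
        rw [← h, smul_sub]; abel
      have e3 : g • v = g • w + (v - w) := by
        rw [← e2]; abel
      have e4 : H.e (-(g • w)) (g • v) * H.e w (v - w) = 1 := by
        rw [e3, H.e_add_right]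
        have e5 := H.e_neg_left (g • w) (g • w)
        rw [H.e_self, mul_one] at e5
        rw [e5, one_mul]
        have e6 : H.e w (v - w) = H.e (g • w) (v - w) := by
          rw [← he g w (v - w), h]
        rw [e6, H.e_neg_left]
      rw [e2]
      rw [smul_eq_mul, smul_eq_mul, ← mul_assoc, e4, one_mul]
    · rw [if_neg h, if_neg (fun h' => h (hiff.1 h')), smul_zero, smul_zero]
  have h4 : ((H.W g)ᴴ * H.W g).trace =
      (Fintype.card V : ℂ) * ((Fintype.card X : ℂ) * fix V g) := by
    rw [h2]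
    have h5 : ∀ w : V, ∑ v : V, (H.D w * H.D (-(g • w)) * (H.D (g • v) * H.D (-v))).trace =
        (Fintype.card X : ℂ) * fix V g := by
      intro w
      have h6 := Fintype.sum_equiv (Equiv.subRight w)
        (fun v => if g • (v - w) = v - w then (Fintype.card X : ℂ) else 0)
        (fun v => if g • v = v then (Fintype.card X : ℂ) else 0) (fun v => rfl)
      rw [Finset.sum_congr rfl (fun v _ => h3 w v), h6, ← Finset.sum_filter, Finset.sum_const, nsmul_eq_mul, mul_comm, fix,
        Nat.card_eq_fintype_card, Fintype.card_subtype]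
    rw [Finset.sum_congr rfl (fun w _ => h5 w), Finset.sum_const, Finset.card_univ, nsmul_eq_mul]
  rw [hc]
  congr 1
  apply mul_right_cancel₀ (card_X_ne (X := X))
  rw [← h1, h4]
  ring

theorem P_conj_W (g : G) : H.P * H.W g = H.W g * H.P := by
  have hPD : ∀ v, H.P * H.D v * H.P = H.D (-v) := fun v => by
    rw [H.P_D, mul_assoc, H.P_sq, mul_one]
  have h1 : H.P * H.W g * H.P = H.W g := by
    rw [W, Finset.mul_sum, Finset.sum_mul]
    have h2 : ∀ v : V, H.P * (H.D (g • v) * H.D (-v)) * H.P =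
        H.D (g • (-v)) * H.D (- -v) := by
      intro v
      calc H.P * (H.D (g • v) * H.D (-v)) * H.P
          = H.P * H.D (g • v) * (H.P * H.P) * H.D (-v) * H.P := by
            rw [H.P_sq, mul_one]; simp only [mul_assoc]
        _ = (H.P * H.D (g • v) * H.P) * (H.P * H.D (-v) * H.P) := by simp only [mul_assoc]
        _ = H.D (g • (-v)) * H.D (- -v) := by rw [hPD, hPD, smul_neg]
    rw [Finset.sum_congr rfl (fun v _ => h2 v)]
    exact Fintype.sum_equiv (Equiv.neg V) _ _ (fun v => by simp)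
  calc H.P * H.W g = H.P * H.W g * (H.P * H.P) := by rw [H.P_sq, mul_one]
    _ = (H.P * H.W g * H.P) * H.P := by simp only [mul_assoc]
    _ = H.W g * H.P := by rw [h1]

/-! ### The normalisation -/

variable (H) in
/-- The projection to the even part. -/
noncomputable def Pp : Matrix X X ℂ := (1 / 2 : ℂ) • (1 + H.P)

variable (H) in
/-- The projection to the odd part. -/
noncomputable def Pm : Matrix X X ℂ := (1 / 2 : ℂ) • (1 - H.P)

theorem Pp_add_Pm : H.Pp + H.Pm = 1 := by
  rw [Pp, Pm, ← smul_add]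
  have : (1 + H.P + (1 - H.P)) = (2 : ℂ) • (1 : Matrix X X ℂ) := by
    rw [two_smul]; abel
  rw [this, smul_smul]
  norm_num

theorem Pp_mul_Pm : H.Pp * H.Pm = 0 := by
  rw [Pp, Pm, smul_mul_smul_comm]
  have : (1 + H.P) * (1 - H.P) = 0 := by
    rw [add_mul, mul_sub, mul_sub, H.P_sq, one_mul, mul_one, one_mul]; abel
  rw [this, smul_zero]

theorem Pm_mul_Pp : H.Pm * H.Pp = 0 := by
  rw [Pp, Pm, smul_mul_smul_comm]
  have : (1 - H.P) * (1 + H.P) = 0 := by
    rw [sub_mul, mul_add, mul_add, H.P_sq, one_mul, mul_one, one_mul]; abel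
  rw [this, smul_zero]

theorem Pp_mul_Pp : H.Pp * H.Pp = H.Pp := by
  have h := congrArg (H.Pp * ·) (Pp_add_Pm (H := H))
  simp only [mul_add, Pp_mul_Pm, add_zero, mul_one] at h
  exact h

theorem Pm_mul_Pm : H.Pm * H.Pm = H.Pm := by
  have h := congrArg (H.Pm * ·) (Pp_add_Pm (H := H))
  simp only [mul_add, Pm_mul_Pp, zero_add, mul_one] at h
  exact h

theorem star_Pp : (H.Pp)ᴴ = H.Pp := by
  rw [Pp, conjTranspose_smul, conjTranspose_add, conjTranspose_one, H.star_P]
  simp

theorem star_Pm : (H.Pm)ᴴ = H.Pm := by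
  rw [Pm, conjTranspose_smul, conjTranspose_sub, conjTranspose_one, H.star_P]
  simp

theorem Pp_comm {A : Matrix X X ℂ} (hA : H.P * A = A * H.P) : H.Pp * A = A * H.Pp := by
  rw [Pp, smul_mul_assoc, mul_smul_comm, add_mul, mul_add, hA, one_mul, mul_one]

theorem Pm_comm {A : Matrix X X ℂ} (hA : H.P * A = A * H.P) : H.Pm * A = A * H.Pm := by
  rw [Pm, smul_mul_assoc, mul_smul_comm, sub_mul, mul_sub, hA, one_mul, mul_one]

variable (H) in
/-- Determinant on the even part. -/
noncomputable def dp (A : Matrix X X ℂ) : ℂ := (A * H.Pp + H.Pm).det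

variable (H) in
/-- Determinant on the odd part. -/
noncomputable def dm (A : Matrix X X ℂ) : ℂ := (A * H.Pm + H.Pp).det

theorem dp_mul {A B : Matrix X X ℂ} (hB : H.P * B = B * H.P) :
    H.dp (A * B) = H.dp A * H.dp B := by
  rw [dp, dp, dp, ← Matrix.det_mul]
  congr 1
  rw [add_mul, mul_add, mul_add]
  have e1 : A * H.Pp * (B * H.Pp) = A * B * H.Pp := by
    calc A * H.Pp * (B * H.Pp) = A * (H.Pp * B) * H.Pp := by simp only [mul_assoc]
      _ = A * B * (H.Pp * H.Pp) := by rw [Pp_comm hB]; simp only [mul_assoc]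
      _ = A * B * H.Pp := by rw [Pp_mul_Pp]
  have e2 : A * H.Pp * H.Pm = 0 := by rw [mul_assoc, Pp_mul_Pm, mul_zero]
  have e3 : H.Pm * (B * H.Pp) = 0 := by
    rw [← mul_assoc, Pm_comm hB, mul_assoc, Pm_mul_Pp, mul_zero]
  rw [e1, e2, e3, Pm_mul_Pm, add_zero, zero_add]

theorem dm_mul {A B : Matrix X X ℂ} (hB : H.P * B = B * H.P) :
    H.dm (A * B) = H.dm A * H.dm B := by
  rw [dm, dm, dm, ← Matrix.det_mul]
  congr 1
  rw [add_mul, mul_add, mul_add]
  have e1 : A * H.Pm * (B * H.Pm) = A * B * H.Pm := by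
    calc A * H.Pm * (B * H.Pm) = A * (H.Pm * B) * H.Pm := by simp only [mul_assoc]
      _ = A * B * (H.Pm * H.Pm) := by rw [Pm_comm hB]; simp only [mul_assoc]
      _ = A * B * H.Pm := by rw [Pm_mul_Pm]
  have e2 : A * H.Pm * H.Pp = 0 := by rw [mul_assoc, Pm_mul_Pp, mul_zero]
  have e3 : H.Pp * (B * H.Pm) = 0 := by
    rw [← mul_assoc, Pp_comm hB, mul_assoc, Pp_mul_Pm, mul_zero]
  rw [e1, e2, e3, Pp_mul_Pp, add_zero, zero_add]

theorem dm_one : H.dm 1 = 1 := by rw [dm, one_mul, add_comm, Pp_add_Pm, Matrix.det_one]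

theorem P_comm_smul_one (c : ℂ) : H.P * (c • (1 : Matrix X X ℂ)) = (c • 1) * H.P := by
  rw [mul_smul_comm, smul_mul_assoc, mul_one, one_mul]

theorem dp_smul_one (c : ℂ) : H.dp (c • 1) = c * H.dm (c • 1) := by
  rw [dp, dm, smul_mul_assoc, smul_mul_assoc, one_mul, one_mul]
  exact H.det_P c

theorem dm_smul_one_ne {c : ℂ} (hc : c ≠ 0) : H.dm (c • 1) ≠ 0 := by
  intro h
  have h1 : H.dm ((c • 1) * (c⁻¹ • 1)) = 1 := by
    rw [smul_mul_smul_comm, mul_inv_cancel₀ hc, one_smul, one_mul, dm_one]
  rw [dm_mul (P_comm_smul_one _), h, zero_mul] at h1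
  exact zero_ne_one h1

variable (H) in
/-- The normalising factor. -/
noncomputable def R (A : Matrix X X ℂ) : ℂ := H.dp A / H.dm A

theorem R_mul {A B : Matrix X X ℂ} (hB : H.P * B = B * H.P) : H.R (A * B) = H.R A * H.R B := by
  rw [R, R, R, dp_mul hB, dm_mul hB, mul_div_mul_comm]

theorem R_smul_one {c : ℂ} (hc : c ≠ 0) : H.R (c • 1) = c := by
  rw [R, dp_smul_one, mul_div_cancel_right₀ _ (dm_smul_one_ne hc)]

theorem R_smul {c : ℂ} (hc : c ≠ 0) {A : Matrix X X ℂ} (hA : H.P * A = A * H.P) :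
    H.R (c • A) = c * H.R A := by
  have h : c • A = (c • 1) * A := by rw [smul_mul_assoc, one_mul]
  rw [h, R_mul hA, R_smul_one hc]

theorem P_comm_star {A : Matrix X X ℂ} (hA : H.P * A = A * H.P) : H.P * Aᴴ = Aᴴ * H.P := by
  have h := congrArg conjTranspose hA
  rw [conjTranspose_mul, conjTranspose_mul, H.star_P] at h
  exact h.symm

theorem R_star {A : Matrix X X ℂ} (hA : H.P * A = A * H.P) : H.R Aᴴ = conj (H.R A) := by
  have h1 : H.dp Aᴴ = conj (H.dp A) := by
    rw [dp, dp, starRingEnd_apply, ← Matrix.det_conjTranspose, conjTranspose_add,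
      conjTranspose_mul, star_Pp, star_Pm, Pp_comm (P_comm_star hA)]
  have h2 : H.dm Aᴴ = conj (H.dm A) := by
    rw [dm, dm, starRingEnd_apply, ← Matrix.det_conjTranspose, conjTranspose_add,
      conjTranspose_mul, star_Pp, star_Pm, Pm_comm (P_comm_star hA)]
  rw [R, R, h1, h2, map_div₀]

variable (H) in
/-- The Weil representation. -/
noncomputable def om (g : G) : Matrix X X ℂ := (H.R (H.W g))⁻¹ • H.W g

variable [Nonempty X]

theorem lam_ne (g : G) : ((Fintype.card V : ℂ) * fix V g) ≠ 0 := by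
  have h1 : (fix V g : ℂ) ≠ 0 := by exact_mod_cast (fix_pos (V := V) g).ne'
  have h2 : (Fintype.card V : ℂ) ≠ 0 := by exact_mod_cast Fintype.card_ne_zero
  exact mul_ne_zero h2 h1

theorem W_mul_star_W (he : ∀ (g : G) (v w : V), H.e (g • v) (g • w) = H.e v w)
    (g : G) : H.W g * (H.W g)ᴴ = ((Fintype.card V : ℂ) * fix V g) • 1 := by
  set l := ((Fintype.card V : ℂ) * fix V g) with hl
  have hl0 : l ≠ 0 := lam_ne g
  have h1 : (l⁻¹ • (H.W g)ᴴ) * H.W g = 1 := by
    rw [smul_mul_assoc, star_W_mul_W he, ← hl, smul_smul, inv_mul_cancel₀ hl0, one_smul]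
  have h2 := mul_eq_one_comm.1 h1
  rw [mul_smul_comm] at h2
  rw [← h2, smul_smul, mul_inv_cancel₀ hl0, one_smul]

theorem R_W_mul (he : ∀ (g : G) (v w : V), H.e (g • v) (g • w) = H.e v w) (g : G) :
    conj (H.R (H.W g)) * H.R (H.W g) = (Fintype.card V : ℂ) * fix V g := by
  rw [← R_star (P_conj_W g), ← R_mul (P_conj_W g), star_W_mul_W he, R_smul_one (lam_ne g)]

theorem R_W_ne (he : ∀ (g : G) (v w : V), H.e (g • v) (g • w) = H.e v w) (g : G) :
    H.R (H.W g) ≠ 0 := by
  intro h
  have h1 := R_W_mul he g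
  rw [h, mul_zero] at h1
  exact lam_ne g h1.symm

/-- The projective relation. -/
theorem exists_cocycle (he : ∀ (g : G) (v w : V), H.e (g • v) (g • w) = H.e v w) (g h : G) :
    ∃ c : ℂ, c ≠ 0 ∧ H.W g * H.W h = c • H.W (g * h) := by
  obtain ⟨m, hm⟩ := H.comm ((H.W (g * h))ᴴ * (H.W g * H.W h)) fun v => by
    rw [mul_assoc, mul_assoc (H.W g), W_mul_D he, ← mul_assoc (H.W g), W_mul_D he, smul_smul,
      mul_assoc (H.D _), ← mul_assoc _ (H.D _), star_W_mul_D he, mul_assoc]
  set l := ((Fintype.card V : ℂ) * fix V (g * h)) with hl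
  have hl0 : l ≠ 0 := lam_ne (g * h)
  have h1 : l • (H.W g * H.W h) = m • H.W (g * h) := by
    have h2 := congrArg (H.W (g * h) * ·) hm
    simp only [mul_smul_comm, mul_one] at h2
    rw [← h2, ← mul_assoc, W_mul_star_W he, ← hl, smul_mul_assoc, one_mul]
  have h3 : H.W g * H.W h = (l⁻¹ * m) • H.W (g * h) := by
    rw [mul_smul, ← h1, smul_smul, inv_mul_cancel₀ hl0, one_smul]
  refine ⟨l⁻¹ * m, ?_, h3⟩
  intro h0
  rw [h0, zero_smul] at h3
  -- `W g` is invertible
  have h4 := congrArg ((H.W g)ᴴ * ·) h3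
  simp only [mul_zero, ← mul_assoc, star_W_mul_W he, smul_mul_assoc, one_mul] at h4
  exact W_ne_zero h ((smul_eq_zero.1 h4).resolve_left (lam_ne g))

theorem om_mul (he : ∀ (g : G) (v w : V), H.e (g • v) (g • w) = H.e v w) (g h : G) :
    H.om (g * h) = H.om g * H.om h := by
  obtain ⟨c, hc, h1⟩ := exists_cocycle he g h
  have h2 : H.R (H.W g) * H.R (H.W h) = c * H.R (H.W (g * h)) := by
    rw [← R_mul (P_conj_W h), h1, R_smul hc (P_conj_W _)]
  rw [om, om, om, smul_mul_smul_comm, h1, smul_smul]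
  congr 1
  have h3 := R_W_ne he g
  have h4 := R_W_ne he h
  have h5 := R_W_ne he (g * h)
  field_simp
  rw [h2, mul_comm]

theorem om_one (he : ∀ (g : G) (v w : V), H.e (g • v) (g • w) = H.e v w) :
    H.om (1 : G) = 1 := by
  have h1 := om_mul he (1 : G) 1
  rw [mul_one] at h1
  -- `om 1` is invertible
  have hR := R_W_ne he (1 : G)
  have h2 : (((Fintype.card V : ℂ) * fix V (1 : G))⁻¹ • H.R (H.W (1 : G)) • (H.W (1 : G))ᴴ) *
      H.om (1 : G) = 1 := by
    rw [om, smul_mul_assoc, smul_mul_assoc, mul_smul_comm, star_W_mul_W he, smul_smul, smul_smul,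
      smul_smul]
    have h5 := lam_ne (V := V) (1 : G)
    have h6 : ((Fintype.card V : ℂ) * fix V (1 : G))⁻¹ * H.R (H.W (1 : G)) *
        (H.R (H.W (1 : G)))⁻¹ * ((Fintype.card V : ℂ) * fix V (1 : G)) = 1 := by
      rw [mul_assoc _ (H.R _), mul_inv_cancel₀ hR, mul_one, inv_mul_cancel₀ h5]
    rw [h6, one_smul]
  have h3 := congrArg
    ((((Fintype.card V : ℂ) * fix V (1 : G))⁻¹ • H.R (H.W (1 : G)) • (H.W (1 : G))ᴴ) * ·) h1
  simp only [← mul_assoc, h2, one_mul] at h3
  exact h3.symm

omit [Nonempty X] in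
theorem om_comm_P (g : G) : H.P * H.om g = H.om g * H.P := by
  rw [om, mul_smul_comm, smul_mul_assoc, P_conj_W]

/-- **The character of the Weil representation**. -/
theorem trace_om (he : ∀ (g : G) (v w : V), H.e (g • v) (g • w) = H.e v w) (g : G) :
    (H.om g).trace * conj ((H.om g).trace) = fix V g := by
  have h1 := R_W_mul he g
  have hR := R_W_ne he g
  have hRc : conj (H.R (H.W g)) ≠ 0 := (map_ne_zero _).2 hR
  rw [om, Matrix.trace_smul, trace_W, smul_eq_mul, map_mul, map_inv₀, map_mul, map_natCast,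
    map_natCast]
  have h2 : (H.R (H.W g))⁻¹ * ((Fintype.card X : ℂ) * fix V g) *
      ((conj (H.R (H.W g)))⁻¹ * ((Fintype.card X : ℂ) * fix V g)) =
      (conj (H.R (H.W g)) * H.R (H.W g))⁻¹ * ((Fintype.card X : ℂ) ^ 2 * (fix V g : ℂ) ^ 2) := by
    rw [mul_inv]
    ring
  have h3 : (Fintype.card V : ℂ) = (Fintype.card X : ℂ) ^ 2 := by
    rw [H.card_V]; push_cast; rfl
  rw [h2, h1, h3]
  have h4 : (fix V g : ℂ) ≠ 0 := by exact_mod_cast (fix_pos (V := V) g).ne'
  have h5 := card_X_ne (X := X)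
  field_simp

/-- An element acting as `-1` is mapped to `± P`. -/
theorem om_neg (he : ∀ (g : G) (v w : V), H.e (g • v) (g • w) = H.e v w) {z : G}
    (hz : ∀ v : V, z • v = -v) (hz2 : z * z = 1) : H.om z = H.P ∨ H.om z = -H.P := by
  have h0 : ∀ v, H.om z * H.D v = H.D (-v) * H.om z := by
    intro v
    rw [om, smul_mul_assoc, W_mul_D he, hz, mul_smul_comm]
  obtain ⟨c, hc⟩ := H.comm (H.P * H.om z) fun v => by
    rw [mul_assoc, h0, ← mul_assoc, H.P_D, neg_neg, mul_assoc]
  have h1 : H.om z = c • H.P := by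
    have h2 := congrArg (H.P * ·) hc
    simp only [← mul_assoc, H.P_sq, one_mul, mul_smul_comm, mul_one] at h2
    exact h2
  have h3 : (c * c) • (1 : Matrix X X ℂ) = 1 := by
    have h4 := om_mul he z z
    rw [hz2, om_one he, h1, smul_mul_smul_comm, H.P_sq] at h4
    exact h4.symm
  have h5 : c * c = 1 := by
    have h6 := congrArg Matrix.trace h3
    rw [Matrix.trace_smul, Matrix.trace_one, smul_eq_mul] at h6
    exact mul_right_cancel₀ (card_X_ne (X := X)) (by rw [h6, one_mul])
  rcases mul_self_eq_one_iff.1 h5 with h | h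
  · left; rw [h1, h, one_smul]
  · right; rw [h1, h, neg_smul, one_smul]

end HData

end Cfsg.Agent.H677.WeilCore
end

-- part: H677/WeilChar
section
/-!
# The two Weil characters from abstract Heisenberg data

`fp g = tr (om g * Pp)` and `fm g = tr (om g * Pm)` are characters of degrees `(N + 1) / 2` and
`(N - 1) / 2`, `N = |X|`; they are irreducible when the group is transitive on the nonzero elements
of `V`.
-/

set_option autoImplicit false

namespace Cfsg.Agent.H677.WeilChar

open Matrix Cfsg Cfsg.Agent.H677.WeilCore Cfsg.Agent.H677.WeilCore.HData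
open scoped ComplexConjugate

universe u

variable {V X : Type*} [AddCommGroup V] [Fintype V] [Fintype X] [DecidableEq X] [Nonempty X]
  {H : HData V X} {G : Type u} [Group G] [DistribMulAction G V]

/-- The representation on the range of an idempotent commuting with `om`. -/
noncomputable def subRep (he : ∀ (g : G) (v w : V), H.e (g • v) (g • w) = H.e v w)
    (A : Matrix X X ℂ) (hA : ∀ g : G, A * H.om g = H.om g * A) :
    Representation ℂ G (LinearMap.range (toLin' A)) where
  toFun g := (toLin' (H.om g)).restrict (p := LinearMap.range (toLin' A))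
    (q := LinearMap.range (toLin' A)) (by
      rintro _ ⟨x, rfl⟩
      refine ⟨toLin' (H.om g) x, ?_⟩
      rw [← LinearMap.comp_apply, ← LinearMap.comp_apply, ← toLin'_mul, ← toLin'_mul, hA])
  map_one' := by
    ext x
    simp only [om_one he, _root_.Matrix.toLin'_one, _root_.LinearMap.coe_restrict_apply, _root_.LinearMap.id_coe, _root_.id_eq, _root_.Module.End.one_apply]
  map_mul' g h := by
    apply LinearMap.ext
    intro x
    apply Subtype.ext
    change toLin' (H.om (g * h)) (x : X → ℂ) = toLin' (H.om g) (toLin' (H.om h) (x : X → ℂ))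
    rw [om_mul he, toLin'_mul, LinearMap.comp_apply]

theorem trace_subRep (he : ∀ (g : G) (v w : V), H.e (g • v) (g • w) = H.e v w)
    (A : Matrix X X ℂ) (hA : ∀ g : G, A * H.om g = H.om g * A) (hAA : A * A = A) (g : G) :
    (subRep he A hA).character g = (H.om g * A).trace := by
  rw [Representation.character, ← Matrix.trace_toLin'_eq]
  have hf : ∀ x, toLin' (H.om g * A) x ∈ LinearMap.range (toLin' A) := by
    intro x
    rw [← hA, toLin'_mul]
    exact ⟨_, rfl⟩
  rw [← LinearMap.trace_restrict_eq_of_forall_mem (LinearMap.range (toLin' A))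
    (toLin' (H.om g * A)) hf]
  congr 1
  apply LinearMap.ext
  rintro ⟨_, ⟨x, rfl⟩⟩
  apply Subtype.ext
  change toLin' (H.om g) (toLin' A x) = toLin' (H.om g * A) (toLin' A x)
  rw [toLin'_mul, LinearMap.comp_apply, ← LinearMap.comp_apply (toLin' A) (toLin' A),
    ← toLin'_mul, hAA]

variable (H) in
/-- The even Weil character. -/
noncomputable def fp (g : G) : ℂ := (H.om g * H.Pp).trace

variable (H) in
/-- The odd Weil character. -/
noncomputable def fm (g : G) : ℂ := (H.om g * H.Pm).trace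

omit [Nonempty X] in
theorem fp_add_fm (g : G) : fp H g + fm H g = (H.om g).trace := by
  rw [fp, fm, ← Matrix.trace_add, ← mul_add, Pp_add_Pm, mul_one]

theorem isCharacter_fp (he : ∀ (g : G) (v w : V), H.e (g • v) (g • w) = H.e v w) :
    IsCharacter G (fp H : G → ℂ) := by
  have h := Characters.Core.isCharacter_of_rep
    (subRep he H.Pp (fun g : G => Pp_comm (om_comm_P g)))
  have h2 : (subRep he H.Pp (fun g : G => Pp_comm (om_comm_P g))).character = fp H := by
    funext g
    exact trace_subRep he _ _ Pp_mul_Pp g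
  rwa [h2] at h

theorem isCharacter_fm (he : ∀ (g : G) (v w : V), H.e (g • v) (g • w) = H.e v w) :
    IsCharacter G (fm H : G → ℂ) := by
  have h := Characters.Core.isCharacter_of_rep
    (subRep he H.Pm (fun g : G => Pm_comm (om_comm_P g)))
  have h2 : (subRep he H.Pm (fun g : G => Pm_comm (om_comm_P g))).character = fm H := by
    funext g
    exact trace_subRep he _ _ Pm_mul_Pm g
  rwa [h2] at h

theorem fp_one (he : ∀ (g : G) (v w : V), H.e (g • v) (g • w) = H.e v w) :
    fp H (1 : G) = (Fintype.card X + 1) / 2 := by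
  rw [fp, om_one he, one_mul, Pp, Matrix.trace_smul, Matrix.trace_add, Matrix.trace_one,
    H.trace_P, smul_eq_mul]
  ring

theorem fm_one (he : ∀ (g : G) (v w : V), H.e (g • v) (g • w) = H.e v w) :
    fm H (1 : G) = (Fintype.card X - 1) / 2 := by
  rw [fm, om_one he, one_mul, Pm, Matrix.trace_smul, Matrix.trace_sub, Matrix.trace_one,
    H.trace_P, smul_eq_mul]
  ring

omit [Nonempty X] [Fintype X] [DecidableEq X] in
/-- Burnside counting for a group with two orbits. -/
theorem sum_fix [Fintype G] (hV : ∃ v : V, v ≠ 0)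
    (htr : ∀ v w : V, v ≠ 0 → w ≠ 0 → ∃ g : G, g • v = w) :
    ∑ g : G, fix V g = 2 * Fintype.card G := by
  classical
  have h := MulAction.sum_card_fixedBy_eq_card_orbits_mul_card_group G V
  have h1 : Fintype.card (Quotient (MulAction.orbitRel G V)) = 2 := by
    rw [← Fintype.card_bool]
    let f : Quotient (MulAction.orbitRel G V) → Bool := Quotient.lift (fun v => decide (v = 0)) (by
      intro a b hab
      obtain ⟨g, hg⟩ := MulAction.orbitRel_apply.1 hab
      change g • b = a at hg
      have : a = 0 ↔ b = 0 := by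
        rw [← hg]
        exact smul_eq_zero_iff_eq g
      simp [this])
    apply Fintype.card_of_bijective (f := f)
    constructor
    · rintro ⟨a⟩ ⟨b⟩ hab
      change decide (a = 0) = decide (b = 0) at hab
      apply Quotient.sound
      by_cases ha : a = 0
      · have hb : b = 0 := by
          by_contra hb
          rw [decide_eq_true ha, decide_eq_false hb] at hab
          exact Bool.noConfusion hab
        rw [ha, hb]
      · have hb : b ≠ 0 := by
          intro hb
          rw [decide_eq_false ha, decide_eq_true hb] at hab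
          exact Bool.noConfusion hab
        obtain ⟨g, hg⟩ := htr b a hb ha
        exact MulAction.orbitRel_apply.2 ⟨g, hg⟩
    · intro b
      cases b with
      | false =>
        obtain ⟨v, hv⟩ := hV
        refine ⟨Quotient.mk _ v, ?_⟩
        change decide (v = 0) = false
        exact decide_eq_false hv
      | true =>
        refine ⟨Quotient.mk _ 0, ?_⟩
        change decide ((0 : V) = 0) = true
        exact decide_eq_true rfl
  rw [h1] at h
  rw [← h]
  refine Finset.sum_congr rfl fun g _ => ?_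
  rw [fix, Nat.card_eq_fintype_card]
  rfl

/-- **Irreducibility of the two Weil characters.** -/
theorem isIrr [Fintype G] (he : ∀ (g : G) (v w : V), H.e (g • v) (g • w) = H.e v w)
    (hV : ∃ v : V, v ≠ 0) (htr : ∀ v w : V, v ≠ 0 → w ≠ 0 → ∃ g : G, g • v = w)
    (hX : 3 ≤ Fintype.card X) :
    IsIrrCharacter G (fp H : G → ℂ) ∧ IsIrrCharacter G (fm H : G → ℂ) := by
  have hp := isCharacter_fp (H := H) he
  have hm := isCharacter_fm (H := H) he
  obtain ⟨a, ha⟩ := Characters.Core.classInner_isNat hp hp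
  obtain ⟨b, hb⟩ := Characters.Core.classInner_isNat hm hm
  obtain ⟨c, hc⟩ := Characters.Core.classInner_isNat hp hm
  obtain ⟨d, hd⟩ := Characters.Core.classInner_isNat hm hp
  have htot : classInner (fp H + fm H : G → ℂ) (fp H + fm H) = 2 := by
    rw [Characters.Core.classInner_def]
    have h1 : ∀ g : G, (fp H + fm H : G → ℂ) g * conj ((fp H + fm H : G → ℂ) g) =
        (fix V g : ℂ) := by
      intro g
      change (fp H g + fm H g) * conj (fp H g + fm H g) = _
      rw [fp_add_fm, trace_om he]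
    rw [Finset.sum_congr rfl (fun g _ => h1 g), ← Nat.cast_sum, sum_fix hV htr,
      Nat.card_eq_fintype_card]
    have h2 : (Fintype.card G : ℂ) ≠ 0 := by exact_mod_cast Fintype.card_ne_zero
    push_cast
    field_simp
  rw [Characters.Core.classInner_add_left, Characters.Core.classInner_add_right,
    Characters.Core.classInner_add_right, ha, hb, hc, hd] at htot
  have htot' : (a + c) + (d + b) = 2 := by exact_mod_cast htot
  have hX' : (3 : ℝ) ≤ Fintype.card X := by exact_mod_cast hX
  have ha0 : a ≠ 0 := by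
    rintro rfl
    rw [Nat.cast_zero] at ha
    have h1 := congrFun (Characters.Core.classInner_self_eq_zero ha) 1
    rw [fp_one he, Pi.zero_apply, div_eq_zero_iff] at h1
    rcases h1 with h1 | h1
    · have h2 := congrArg Complex.re h1
      simp only [_root_.Complex.add_re, _root_.Complex.natCast_re, _root_.Complex.one_re, _root_.Complex.zero_re] at h2
      linarith only [hX', h2]
    · norm_num at h1
  have hb0 : b ≠ 0 := by
    rintro rfl
    rw [Nat.cast_zero] at hb
    have h1 := congrFun (Characters.Core.classInner_self_eq_zero hb) 1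
    rw [fm_one he, Pi.zero_apply, div_eq_zero_iff] at h1
    rcases h1 with h1 | h1
    · have h2 := congrArg Complex.re h1
      simp at h2
      linarith only [hX', h2]
    · norm_num at h1
  have ha1 : a = 1 := by omega
  have hb1 : b = 1 := by omega
  subst ha1 hb1
  rw [Nat.cast_one] at ha hb
  exact ⟨Characters.Core.isIrr_of_classInner_self hp ha,
    Characters.Core.isIrr_of_classInner_self hm hb⟩

/-- A central involution-like element acting as `-1` is in the kernel of one of the two
characters. -/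
theorem fp_or_fm_neg (he : ∀ (g : G) (v w : V), H.e (g • v) (g • w) = H.e v w) {z : G}
    (hz : ∀ v : V, z • v = -v) (hz2 : z * z = 1) :
    (∀ g : G, fp H (z * g) = fp H g ∧ fm H (z * g) = -fm H g) ∨
      (∀ g : G, fp H (z * g) = -fp H g ∧ fm H (z * g) = fm H g) := by
  have hPp : H.P * H.Pp = H.Pp := by
    rw [Pp, mul_smul_comm, mul_add, mul_one, H.P_sq, add_comm]
  have hPm : H.P * H.Pm = -H.Pm := by
    rw [Pm, mul_smul_comm, mul_sub, mul_one, H.P_sq, ← smul_neg, neg_sub]
  have e1 : ∀ g : G, H.P * H.om g * H.Pp = H.om g * H.Pp := fun g => by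
    rw [om_comm_P, mul_assoc, hPp]
  have e2 : ∀ g : G, H.P * H.om g * H.Pm = -(H.om g * H.Pm) := fun g => by
    rw [om_comm_P, mul_assoc, hPm, mul_neg]
  rcases om_neg he hz hz2 with h | h
  · left
    intro g
    rw [fp, fm, om_mul he, h, e1, e2, Matrix.trace_neg]
    exact ⟨rfl, rfl⟩
  · right
    intro g
    rw [fp, fm, om_mul he, h, neg_mul, neg_mul, neg_mul, e1, e2, neg_neg, Matrix.trace_neg]
    exact ⟨rfl, rfl⟩

end Cfsg.Agent.H677.WeilChar
end

-- part: H677/WeilSp
section
/-!
# The Heisenberg data of the symplectic space of dimension `2 n` over a finite field of odd order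
-/

set_option autoImplicit false

namespace Cfsg.Agent.H677.WeilSp

open Matrix Cfsg Cfsg.Agent.H677.WeilCore
open Cfsg.Agent.ClassicalGeometry.SympBasic
open scoped ComplexConjugate ComplexOrder

section Parity

variable {X : Type*} [AddCommGroup X] [Fintype X] [DecidableEq X]

variable (X) in
/-- The parity matrix. -/
def par : Matrix X X ℂ := fun x y => if y = -x then 1 else 0

theorem par_mul (A : Matrix X X ℂ) (x y : X) : (par X * A) x y = A (-x) y := by
  rw [Matrix.mul_apply]
  simp only [par, ite_mul, one_mul, zero_mul, Finset.sum_ite_eq', Finset.mem_univ, if_true]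

theorem mul_par (A : Matrix X X ℂ) (x y : X) : (A * par X) x y = A x (-y) := by
  rw [Matrix.mul_apply]
  have h : ∀ z : X, A x z * par X z y = if z = -y then A x z else 0 := by
    intro z
    rw [par]
    by_cases hz : z = -y
    · rw [if_pos hz, if_pos (by rw [hz, neg_neg]), mul_one]
    · rw [if_neg hz, if_neg (fun h => hz (by rw [h, neg_neg])), mul_zero]
  simp only [h, Finset.sum_ite_eq', Finset.mem_univ, if_true]

theorem par_sq : par X * par X = 1 := by
  ext x y
  rw [par_mul, par, neg_neg, Matrix.one_apply]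
  simp only [eq_comm]

omit [Fintype X] in
theorem star_par : (par X)ᴴ = par X := by
  ext x y
  rw [Matrix.conjTranspose_apply, par, par]
  by_cases h : y = -x
  · rw [if_pos h, if_pos (by rw [h, neg_neg]), star_one]
  · rw [if_neg h, if_neg (fun h' => h (by rw [h', neg_neg])), star_zero]

theorem trace_par (h2 : ∀ x : X, x = -x → x = 0) : (par X).trace = 1 := by
  rw [Matrix.trace]
  have h : ∀ x : X, Matrix.diag (par X) x = if x = 0 then 1 else 0 := by
    intro x
    rw [Matrix.diag_apply, par]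
    by_cases hx : x = 0
    · rw [if_pos (by rw [hx, neg_zero]), if_pos hx]
    · rw [if_neg (fun h' => hx (h2 x h')), if_neg hx]
  simp only [h, Finset.sum_ite_eq', Finset.mem_univ, if_true]

omit [DecidableEq X] in
/-- An odd sign function. -/
theorem exists_sign (h2 : ∀ x : X, x = -x → x = 0) :
    ∃ s : X → ℂ, s 0 = 1 ∧ (∀ x, s x * s x = 1) ∧ ∀ x, x ≠ 0 → s x * s (-x) = -1 := by
  let f := Fintype.equivFin X
  refine ⟨fun x => if f (-x) < f x then -1 else 1, ?_, ?_, ?_⟩
  · simp only [_root_.neg_zero, _root_.lt_self_iff_false, ↓ _root_.reduceIte]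
  · intro x
    dsimp only
    split_ifs <;> norm_num
  · intro x hx
    dsimp only
    rw [neg_neg]
    have hne : f (-x) ≠ f x := fun h => hx (h2 x (f.injective h).symm)
    rcases lt_or_gt_of_ne hne with h | h
    · rw [if_pos h, if_neg (not_lt.2 h.le)]
      norm_num
    · rw [if_neg (not_lt.2 h.le), if_pos h]
      norm_num

theorem det_par (h2 : ∀ x : X, x = -x → x = 0) (c : ℂ) :
    (c • ((1 / 2 : ℂ) • (1 + par X)) + (1 / 2 : ℂ) • (1 - par X)).det =
    c * (c • ((1 / 2 : ℂ) • (1 - par X)) + (1 / 2 : ℂ) • (1 + par X)).det := by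
  obtain ⟨s, hs0, hs1, hs2⟩ := exists_sign h2
  set E : Matrix X X ℂ := Matrix.diagonal s with hE
  have hEE : E * E = 1 := by
    rw [hE, Matrix.diagonal_mul_diagonal]
    ext x y
    by_cases h : x = y
    · subst h; rw [Matrix.diagonal_apply_eq, hs1, Matrix.one_apply_eq]
    · rw [Matrix.diagonal_apply_ne _ h, Matrix.one_apply_ne h]
  set A₁ := c • ((1 / 2 : ℂ) • (1 + par X)) + (1 / 2 : ℂ) • (1 - par X) with hA₁
  set A₂ := c • ((1 / 2 : ℂ) • (1 - par X)) + (1 / 2 : ℂ) • (1 + par X) with hA₂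
  let Δ : Matrix X X ℂ := Matrix.diagonal (fun x => if x = 0 then c else 1)
  have hdet : Δ.det = c := by
    rw [Matrix.det_diagonal]
    simp only [Finset.prod_ite_eq', _root_.Finset.mem_univ, ↓ _root_.reduceIte]
  have key : E * A₁ * E = A₂ * Δ := by
    ext x y
    rw [hE, Matrix.mul_diagonal, Matrix.diagonal_mul, Matrix.mul_diagonal, hA₁, hA₂]
    simp only [Matrix.add_apply, Matrix.smul_apply, Matrix.sub_apply, smul_eq_mul, par,
      Matrix.one_apply]
    by_cases hy : y = 0
    · subst hy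
      rw [if_pos rfl, hs0]
      by_cases hx : x = 0
      · subst hx
        rw [hs0, if_pos rfl, if_pos neg_zero.symm]
        ring
      · rw [if_neg hx, if_neg (fun h => hx (by rw [← neg_neg x, ← h, neg_zero]))]
        ring
    · rw [if_neg hy, mul_one]
      by_cases hxy : x = y
      · subst hxy
        rw [if_pos rfl, if_neg (fun h => hy (h2 x h))]
        linear_combination (c * (1 / 2) + 1 / 2) * hs1 x
      · rw [if_neg hxy]
        by_cases hn : y = -x
        · rw [if_pos hn, hn]
          have hx : x ≠ 0 := by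
            rintro rfl
            rw [neg_zero] at hn
            exact hy hn
          linear_combination (c * (1 / 2) - 1 / 2) * hs2 x hx
        · rw [if_neg hn]
          ring
  have h := congrArg Matrix.det key
  rw [Matrix.det_mul, Matrix.det_mul, Matrix.det_mul, hdet] at h
  have h1 := congrArg Matrix.det hEE
  rw [Matrix.det_mul, Matrix.det_one] at h1
  linear_combination h - A₁.det * h1

end Parity

section Field

variable {F : Type*} [Field F] [Fintype F] [DecidableEq F] {n : ℕ}

/-- The Heisenberg operators. -/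
noncomputable def Dop (n : ℕ) (ψ : AddChar F ℂ) (v : Fin n ⊕ Fin n → F) :
    Matrix (Fin n → F) (Fin n → F) ℂ :=
  fun x y => if y = x + v ∘ Sum.inl then
    ψ ((v ∘ Sum.inr) ⬝ᵥ x + 2⁻¹ * ((v ∘ Sum.inl) ⬝ᵥ (v ∘ Sum.inr))) else 0

/-- The Heisenberg cocycle. -/
noncomputable def ecoc (n : ℕ) (ψ : AddChar F ℂ) (v w : Fin n ⊕ Fin n → F) : ℂ :=
  ψ (2⁻¹ * (-sympForm n F v w))

omit [Fintype F] [DecidableEq F] in
theorem sympForm_eq (v w : Fin n ⊕ Fin n → F) : sympForm n F v w =
    (v ∘ Sum.inr) ⬝ᵥ (w ∘ Sum.inl) - (v ∘ Sum.inl) ⬝ᵥ (w ∘ Sum.inr) := by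
  rw [sympForm_eq_sum, Finset.sum_sub_distrib]
  rfl

theorem Dop_mul_apply (ψ : AddChar F ℂ) (v : Fin n ⊕ Fin n → F)
    (A : Matrix (Fin n → F) (Fin n → F) ℂ) (x y : Fin n → F) :
    (Dop n ψ v * A) x y =
      ψ ((v ∘ Sum.inr) ⬝ᵥ x + 2⁻¹ * ((v ∘ Sum.inl) ⬝ᵥ (v ∘ Sum.inr))) *
        A (x + v ∘ Sum.inl) y := by
  rw [Matrix.mul_apply]
  simp only [Dop, ite_mul, zero_mul, Finset.sum_ite_eq', Finset.mem_univ, if_true]

theorem mul_Dop_apply (ψ : AddChar F ℂ) (v : Fin n ⊕ Fin n → F)
    (A : Matrix (Fin n → F) (Fin n → F) ℂ) (x y : Fin n → F) :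
    (A * Dop n ψ v) x y = A x (y - v ∘ Sum.inl) *
      ψ ((v ∘ Sum.inr) ⬝ᵥ (y - v ∘ Sum.inl) + 2⁻¹ * ((v ∘ Sum.inl) ⬝ᵥ (v ∘ Sum.inr))) := by
  rw [Matrix.mul_apply]
  have h : ∀ z : Fin n → F, A x z * Dop n ψ v z y = if z = y - v ∘ Sum.inl then
      A x z * ψ ((v ∘ Sum.inr) ⬝ᵥ z + 2⁻¹ * ((v ∘ Sum.inl) ⬝ᵥ (v ∘ Sum.inr))) else 0 := by
    intro z
    rw [Dop]
    by_cases hz : z = y - v ∘ Sum.inl
    · rw [if_pos hz, if_pos (by rw [hz, sub_add_cancel])]
    · rw [if_neg hz, if_neg (fun h => hz (by rw [h, add_sub_cancel_right])), mul_zero]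
  simp only [h, Finset.sum_ite_eq', Finset.mem_univ, if_true]

/-- The Heisenberg data. -/
noncomputable def heis (n : ℕ) (h2 : (2 : F) ≠ 0) (ψ : AddChar F ℂ) (hψ : ψ ≠ 1) :
    HData (Fin n ⊕ Fin n → F) (Fin n → F) where
  D := Dop n ψ
  e := ecoc n ψ
  P := par (Fin n → F)
  D_mul v w := by
    ext x y
    rw [Dop_mul_apply, Matrix.smul_apply, smul_eq_mul, Dop, Dop, ecoc]
    have e1 : (v + w) ∘ Sum.inl = v ∘ Sum.inl + w ∘ Sum.inl := rfl
    have e2 : (v + w) ∘ Sum.inr = v ∘ Sum.inr + w ∘ Sum.inr := rfl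
    rw [e1, e2, add_assoc]
    split_ifs with h
    · rw [← AddChar.map_add_eq_mul, ← AddChar.map_add_eq_mul]
      congr 1
      rw [sympForm_eq, dotProduct_add, add_dotProduct, add_dotProduct, dotProduct_add,
        dotProduct_add, dotProduct_comm (w ∘ Sum.inr) (v ∘ Sum.inl),
        dotProduct_comm (v ∘ Sum.inr) (w ∘ Sum.inl)]
      field_simp
      ring
    · rw [mul_zero, mul_zero]
  D_zero := by
    ext x y
    rw [Dop, Matrix.one_apply]
    have e1 : (0 : Fin n ⊕ Fin n → F) ∘ Sum.inl = 0 := rfl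
    have e2 : (0 : Fin n ⊕ Fin n → F) ∘ Sum.inr = 0 := rfl
    rw [e1, e2, add_zero, zero_dotProduct, zero_dotProduct, mul_zero, add_zero,
      AddChar.map_zero_eq_one]
    simp only [eq_comm]
  e_add_left u v w := by
    rw [ecoc, ecoc, ecoc, ← AddChar.map_add_eq_mul, sympForm_add_left]
    congr 1
    ring
  e_add_right u v w := by
    rw [ecoc, ecoc, ecoc, ← AddChar.map_add_eq_mul, sympForm_add_right]
    congr 1
    ring
  e_self v := by
    rw [ecoc, sympForm_self, neg_zero, mul_zero, AddChar.map_zero_eq_one]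
  star_D v := by
    ext x y
    rw [Matrix.conjTranspose_apply, Dop, Dop]
    have e1 : (-v) ∘ Sum.inl = -(v ∘ Sum.inl) := rfl
    have e2 : (-v) ∘ Sum.inr = -(v ∘ Sum.inr) := rfl
    rw [e1, e2]
    by_cases h : x = y + v ∘ Sum.inl
    · rw [if_pos h, if_pos (by rw [h, add_neg_cancel_right])]
      change conj (ψ _) = _
      rw [← AddChar.map_neg_eq_conj, h]
      congr 1
      rw [dotProduct_add, neg_dotProduct, neg_dotProduct, neg_dotProduct, dotProduct_neg,
        dotProduct_comm (v ∘ Sum.inr) (v ∘ Sum.inl)]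
      field_simp
      ring
    · rw [if_neg h, if_neg (fun h' => h (by rw [h', neg_add_cancel_right])), star_zero]
  trace_D v hv := by
    rw [Matrix.trace]
    simp only [Matrix.diag_apply, Dop]
    by_cases ha : v ∘ Sum.inl = 0
    · rw [ha]
      simp only [add_zero, if_true, zero_dotProduct, mul_zero]
      have hb : v ∘ Sum.inr ≠ 0 := by
        intro hb
        apply hv
        rw [← Sum.elim_comp_inl_inr v, ha, hb]
        ext (i | i) <;> rfl
      obtain ⟨i, hi⟩ := Function.ne_iff.1 hb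
      let χ : AddChar (Fin n → F) ℂ :=
        { toFun := fun x => ψ ((v ∘ Sum.inr) ⬝ᵥ x)
          map_zero_eq_one' := by rw [dotProduct_zero, AddChar.map_zero_eq_one]
          map_add_eq_mul' := fun x y => by rw [dotProduct_add, AddChar.map_add_eq_mul] }
      have hχ : χ ≠ 0 := by
        intro h
        apply hψ
        ext a
        have h1 := DFunLike.congr_fun h (Pi.single i (((v ∘ Sum.inr) i)⁻¹ * a))
        change ψ ((v ∘ Sum.inr) ⬝ᵥ (Pi.single i (((v ∘ Sum.inr) i)⁻¹ * a))) = 1 at h1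
        rw [dotProduct_single, mul_inv_cancel_left₀ hi] at h1
        rw [h1, AddChar.one_apply]
      exact AddChar.sum_eq_zero_of_ne_one hχ
    · apply Finset.sum_eq_zero
      intro x _
      rw [if_neg]
      intro h
      apply ha
      exact (left_eq_add.1 h)
  comm A hA := by
    have hA1 : ∀ x y, x ≠ y → A x y = 0 := by
      intro x y hxy
      obtain ⟨i, hi⟩ := Function.ne_iff.1 hxy
      by_contra hne
      apply hψ
      ext a
      rw [AddChar.one_apply]
      have hi' : x i - y i ≠ 0 := sub_ne_zero.2 hi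
      have h1 := congrFun (congrFun (hA (Sum.elim 0 (Pi.single i ((x i - y i)⁻¹ * a)))) x) y
      rw [Dop_mul_apply, mul_Dop_apply] at h1
      rw [Sum.elim_comp_inl, Sum.elim_comp_inr, zero_dotProduct, mul_zero, add_zero, add_zero,
        sub_zero, add_zero, mul_comm] at h1
      have h2' := mul_right_cancel₀ hne h1
      rw [single_dotProduct, single_dotProduct] at h2'
      have h3 : (x i - y i)⁻¹ * a * x i = (x i - y i)⁻¹ * a * y i + a := by
        field_simp
        ring
      rw [h3, AddChar.map_add_eq_mul] at h2'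
      have h4 : ψ ((x i - y i)⁻¹ * a * y i) ≠ 0 := by
        intro h0
        have := AddChar.norm_apply ψ ((x i - y i)⁻¹ * a * y i)
        rw [h0, norm_zero] at this
        exact zero_ne_one this
      exact (mul_left_cancel₀ h4 (by rw [mul_one]; exact h2'.symm))
    have hA2 : ∀ x, A x x = A 0 0 := by
      intro x
      have h1 := congrFun (congrFun (hA (Sum.elim x 0)) 0) x
      rw [Dop_mul_apply, mul_Dop_apply, Sum.elim_comp_inl, Sum.elim_comp_inr, zero_dotProduct,
        zero_dotProduct, dotProduct_zero, sub_self, zero_add, zero_add, mul_zero,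
        AddChar.map_zero_eq_one, mul_one, one_mul] at h1
      exact h1.symm
    refine ⟨A 0 0, ?_⟩
    ext x y
    rw [Matrix.smul_apply, smul_eq_mul]
    by_cases h : x = y
    · subst h; rw [Matrix.one_apply_eq, mul_one, hA2]
    · rw [Matrix.one_apply_ne h, mul_zero, hA1 x y h]
  P_sq := par_sq
  star_P := star_par
  P_D v := by
    ext x y
    rw [par_mul, mul_par, Dop, Dop]
    have e1 : (-v) ∘ Sum.inl = -(v ∘ Sum.inl) := rfl
    have e2 : (-v) ∘ Sum.inr = -(v ∘ Sum.inr) := rfl
    rw [e1, e2, neg_dotProduct, neg_dotProduct, dotProduct_neg, dotProduct_neg, neg_neg]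
    by_cases h : y = -x + v ∘ Sum.inl
    · rw [if_pos h, if_pos (by rw [h, neg_add, neg_neg])]
    · rw [if_neg h, if_neg (fun h' => h (by rw [← neg_neg y, h', neg_add, neg_neg]))]
  trace_P := trace_par (fun x hx => by
    ext i
    have h := congrFun hx i
    rw [Pi.neg_apply, eq_neg_iff_add_eq_zero, ← two_mul] at h
    exact (mul_eq_zero.1 h).resolve_left h2)
  card_V := by
    rw [Fintype.card_fun, Fintype.card_fun, Fintype.card_sum, Fintype.card_fin, ← pow_mul]
    congr 1
    ring
  det_P := det_par (fun x hx => by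
    ext i
    have h := congrFun hx i
    rw [Pi.neg_apply, eq_neg_iff_add_eq_zero, ← two_mul] at h
    exact (mul_eq_zero.1 h).resolve_left h2)

end Field

end Cfsg.Agent.H677.WeilSp
end

-- part: H677/WeilIrr
section
/-!
# The Weil characters of `Sp_{2n}(q)`, `q` odd

* `exists_weil`: for `q` odd, `n ≥ 1`, the group `Sp_{2n}(q)` has irreducible characters `χ₁`, `χ₂`
  of degrees `(q^n + 1) / 2` and `(q^n - 1) / 2`, with `|χ₁ g + χ₂ g|² = #{v | g v = v}`, and one
  of the two is trivial on `-1`;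
* `exists_irr_psp`: `PSp_{2n}(q)` has an irreducible character of degree `(q^n + 1) / 2` or
  `(q^n - 1) / 2`.
-/

set_option autoImplicit false

namespace Cfsg.Agent.H677.WeilIrr

open Matrix Cfsg Cfsg.Agent.H677.WeilCore Cfsg.Agent.H677.WeilChar Cfsg.Agent.H677.WeilSp
open Cfsg.Agent.ClassicalGeometry.SympBasic Cfsg.Agent.ClassicalGeometry.SympInvolutions
open Cfsg.Agent.H686.CharKit
open scoped ComplexConjugate

universe u

variable {F : Type u} [Field F] {n : ℕ}

/-- The natural action of the symplectic group. -/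
@[reducible] def spAct (n : ℕ) (F : Type u) [Field F] :
    DistribMulAction (Matrix.symplecticGroup (Fin n) F) (Fin n ⊕ Fin n → F) where
  smul g v := (g : Matrix (Fin n ⊕ Fin n) (Fin n ⊕ Fin n) F) *ᵥ v
  one_smul v := Matrix.one_mulVec v
  mul_smul g h v := (Matrix.mulVec_mulVec v g.1 h.1).symm
  smul_zero g := Matrix.mulVec_zero g.1
  smul_add g := Matrix.mulVec_add g.1

theorem exists_psi (F : Type u) [Field F] [Finite F] : ∃ ψ : AddChar F ℂ, ψ ≠ 1 := by
  obtain ⟨ψ, hψ⟩ := AddChar.exists_apply_ne_zero.2 (one_ne_zero : (1 : F) ≠ 0)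
  exact ⟨ψ, fun h => hψ (by rw [h, AddChar.one_apply])⟩

theorem exists_weil [Finite F] (hn : 1 ≤ n) (h2 : (2 : F) ≠ 0) {ψ : AddChar F ℂ} (hψ : ψ ≠ 1) :
    ∃ χ₁ χ₂ : IrrCharacter (Matrix.symplecticGroup (Fin n) F),
      2 * charDegree (χ₁ : Matrix.symplecticGroup (Fin n) F → ℂ) = Nat.card F ^ n + 1 ∧
      2 * charDegree (χ₂ : Matrix.symplecticGroup (Fin n) F → ℂ) = Nat.card F ^ n - 1 ∧
      (∀ g : Matrix.symplecticGroup (Fin n) F,
        (χ₁.1 g + χ₂.1 g) * conj (χ₁.1 g + χ₂.1 g) =
          (Nat.card {v : Fin n ⊕ Fin n → F // g.1 *ᵥ v = v} : ℂ)) ∧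
      ((∀ g, χ₁.1 (negOne n F * g) = χ₁.1 g ∧ χ₂.1 (negOne n F * g) = -χ₂.1 g) ∨
        (∀ g, χ₁.1 (negOne n F * g) = -χ₁.1 g ∧ χ₂.1 (negOne n F * g) = χ₂.1 g)) := by
  classical
  have : Fintype F := Fintype.ofFinite F
  let : DistribMulAction (Matrix.symplecticGroup (Fin n) F) (Fin n ⊕ Fin n → F) := spAct n F
  have : Fintype (Matrix.symplecticGroup (Fin n) F) := Fintype.ofFinite _
  let H := heis n h2 ψ hψ
  have hsm : ∀ (g : Matrix.symplecticGroup (Fin n) F) (v : Fin n ⊕ Fin n → F),
      g • v = (g : Matrix (Fin n ⊕ Fin n) (Fin n ⊕ Fin n) F) *ᵥ v := fun _ _ => rfl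
  have he : ∀ (g : Matrix.symplecticGroup (Fin n) F) (v w : Fin n ⊕ Fin n → F),
      H.e (g • v) (g • w) = H.e v w := by
    intro g v w
    change ecoc n ψ _ _ = ecoc n ψ _ _
    rw [ecoc, ecoc, hsm, hsm, sympForm_mulVec g.2]
  have hV : ∃ v : Fin n ⊕ Fin n → F, v ≠ 0 := by
    refine ⟨Pi.single (Sum.inl ⟨0, hn⟩) 1, ?_⟩
    intro h
    have := congrFun h (Sum.inl ⟨0, hn⟩)
    rw [Pi.single_eq_same] at this
    exact one_ne_zero this
  have htr : ∀ v w : Fin n ⊕ Fin n → F, v ≠ 0 → w ≠ 0 →
      ∃ g : Matrix.symplecticGroup (Fin n) F, g • v = w := fun v w hv hw =>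
    S0271.result n v w hv hw
  have hq : 3 ≤ Fintype.card F := by
    have h1 : 1 < Fintype.card F := Fintype.one_lt_card
    by_contra hcon
    have h3 : Fintype.card F = 2 := by omega
    have h4 : (Fintype.card F : F) = 0 := FiniteField.cast_card_eq_zero F
    rw [h3] at h4
    exact h2 (by exact_mod_cast h4)
  have hcX : Fintype.card (Fin n → F) = Nat.card F ^ n := by
    rw [Fintype.card_fun, Fintype.card_fin, Nat.card_eq_fintype_card]
  have hX : 3 ≤ Fintype.card (Fin n → F) := by
    rw [Fintype.card_fun, Fintype.card_fin]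
    calc 3 ≤ Fintype.card F := hq
      _ = Fintype.card F ^ 1 := (pow_one _).symm
      _ ≤ Fintype.card F ^ n := Nat.pow_le_pow_right (by omega) hn
  obtain ⟨h₁, h₂⟩ := isIrr (H := H) he hV htr hX
  refine ⟨⟨_, h₁⟩, ⟨_, h₂⟩, ?_, ?_, ?_, ?_⟩
  · have h := charDegree_irr ⟨_, h₁⟩
    change (charDegree (fp H : Matrix.symplecticGroup (Fin n) F → ℂ) : ℂ) = fp H 1 at h
    rw [fp_one he, hcX] at h
    have h' : (2 * charDegree (fp H : Matrix.symplecticGroup (Fin n) F → ℂ) : ℂ) =
      ((Nat.card F ^ n + 1 : ℕ) : ℂ) := by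
      rw [h]
      push_cast
      ring
    exact_mod_cast h'
  · have h := charDegree_irr ⟨_, h₂⟩
    change (charDegree (fm H : Matrix.symplecticGroup (Fin n) F → ℂ) : ℂ) = fm H 1 at h
    rw [fm_one he, hcX] at h
    have hpos : 1 ≤ Nat.card F ^ n := by omega
    have h' : (2 * charDegree (fm H : Matrix.symplecticGroup (Fin n) F → ℂ) : ℂ) =
      ((Nat.card F ^ n - 1 : ℕ) : ℂ) := by
      rw [h, Nat.cast_sub hpos]
      push_cast
      ring
    exact_mod_cast h'
  · intro g
    change (fp H g + fm H g) * conj (fp H g + fm H g) = _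
    rw [fp_add_fm, HData.trace_om he]
    rfl
  · apply fp_or_fm_neg he (z := negOne n F)
    · intro v
      rw [hsm]
      change (-1 : Matrix (Fin n ⊕ Fin n) (Fin n ⊕ Fin n) F) *ᵥ v = -v
      rw [Matrix.neg_mulVec, Matrix.one_mulVec]
    · apply Subtype.ext
      change (-1 : Matrix (Fin n ⊕ Fin n) (Fin n ⊕ Fin n) F) * (-1) = 1
      rw [neg_mul_neg, one_mul]

/-- An irreducible character of `PSp_{2n}(q)`, `q` odd, of degree `(q^n ± 1) / 2`. -/
theorem exists_irr_psp [Finite F] (hn : 1 ≤ n) (h2 : (2 : F) ≠ 0) :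
    ∃ χ : IrrCharacter (PSp n F),
      2 * charDegree (χ : PSp n F → ℂ) = Nat.card F ^ n + 1 ∨
      2 * charDegree (χ : PSp n F → ℂ) = Nat.card F ^ n - 1 := by
  have : Finite (Matrix.symplecticGroup (Fin n) F) := inferInstance
  obtain ⟨ψ, hψ⟩ := exists_psi F
  obtain ⟨χ₁, χ₂, hd1, hd2, -, hz⟩ := exists_weil hn h2 hψ
  have key : ∀ χ : IrrCharacter (Matrix.symplecticGroup (Fin n) F),
      (∀ g, χ.1 (negOne n F * g) = χ.1 g) →
      ∃ θ : IrrCharacter (PSp n F), charDegree (θ : PSp n F → ℂ) =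
        charDegree (χ : Matrix.symplecticGroup (Fin n) F → ℂ) := by
    intro χ hχ
    have hle : Subgroup.center (Matrix.symplecticGroup (Fin n) F) ≤ chKer χ := by
      intro z hz
      rw [mem_chKer]
      rcases center_eq hz with h | h
      · have : z = 1 := Subtype.ext h
        rw [this]
      · have : z = negOne n F * 1 := by
          rw [mul_one]
          exact Subtype.ext h
        rw [this]
        exact hχ 1
    obtain ⟨θ, hθ⟩ := exists_infl _ χ hle
    refine ⟨θ, ?_⟩
    have h := congrFun (congrArg Subtype.val hθ) 1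
    unfold charDegree
    rw [← h]
    rfl
  rcases hz with hz | hz
  · obtain ⟨θ, hθ⟩ := key χ₁ fun g => (hz g).1
    exact ⟨θ, Or.inl (by rw [hθ, hd1])⟩
  · obtain ⟨θ, hθ⟩ := key χ₂ fun g => (hz g).2
    exact ⟨θ, Or.inr (by rw [hθ, hd2])⟩

end Cfsg.Agent.H677.WeilIrr
end

private theorem dce_84021323f325 : _root_.True := by
  try have : _root_.True := by simp only [_root_.Cfsg.Agent.H677.WeilSp.Dop.congr_simp]
  try have : _root_.True := by simp only [_root_.Cfsg.Agent.H677.WeilCore.HData.fix.eq_1]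
  try have : _root_.True := by simp only [_root_.Cfsg.Agent.H677.WeilSp.ecoc.eq_1]
  try have : _root_.True := by simp only [_root_.Cfsg.Agent.H677.WeilCore.HData.R.eq_1]
  try have : _root_.True := by simp only [_root_.Cfsg.Agent.H677.WeilCore.HData.dm.eq_1]
  try have : _root_.True := by simp only [_root_.Cfsg.Agent.H677.WeilCore.HData.om.eq_1]
  try have : _root_.True := by simp only [_root_.Cfsg.Agent.H677.WeilSp.par.congr_simp]
  try have : _root_.True := by simp only [_root_.Cfsg.Agent.H677.WeilChar.fp.eq_1]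
  try have : _root_.True := by simp only [_root_.Cfsg.Agent.H677.WeilCore.HData.Pp.eq_1]
  try have : _root_.True := by simp only [_root_.Cfsg.Agent.H677.WeilCore.HData.dp.eq_1]
  try have : _root_.True := by simp only [_root_.Cfsg.Agent.H677.WeilChar.fm.eq_1]
  try have : _root_.True := by simp only [_root_.Cfsg.Agent.H677.WeilSp.Dop.eq_1]
  try have : _root_.True := by simp only [_root_.Cfsg.Agent.H677.WeilCore.HData.Pm.eq_1]
  try have : _root_.True := by simp only [_root_.Cfsg.Agent.H677.WeilCore.HData.W.eq_1]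
  try have : _root_.True := by simp only [_root_.Cfsg.Agent.H677.WeilSp.par.eq_1]
  exact _root_.True.intro
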